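import Cfsg.Agent.H17.TE6Five.Basic
import Cfsg.Agent.S3335

/-!
The long root subsystem subgroup of type `A₃` of `²E₆(2)` is the alternating group of degree 8.
-/

set_option autoImplicit false
set_option linter.unusedSectionVars false
set_option maxRecDepth 100000

namespace H17.TE6Five

open Cfsg.Lie H52 H17.HeisDeg.TwAct

/-- A word in the generators of `altA`, as a twisted word. -/
def wdA (L : List ℕ) : List (ℕ × ℕ) := L.map fun i => gALet.getD i (0, 0)

/-- A word in Carmichael's generators, as a twisted word. -/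
def wdC (L : List ℕ) : List (ℕ × ℕ) := L.flatMap fun i => wdA (altWords.getD i [])

theorem wdC_lt : ∀ i < 6, ∀ k ∈ altWords.getD i [], k < 6 := by decide +kernel

theorem altBack_lt : ∀ i < 6, ∀ k ∈ altBack.getD i [], k < 6 := by decide +kernel

theorem carm_cube : sameW (wdC [0, 0, 0]) [] = true := by decide +kernel

theorem carm_sq : ∀ i < 6, 1 ≤ i → sameW (wdC [i, i]) [] = true := by decide +kernel

theorem carm_braid : ∀ i < 5, sameW (wdC [i, i + 1, i, i + 1, i, i + 1]) [] = true := by decide +kernel

theorem carm_far : ∀ j < 6, ∀ i < j, i + 1 < j → sameW (wdC [i, j, i, j]) [] = true := by decide +kernel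

theorem back_ok : ∀ i < 6, sameW (wdC (altBack.getD i [])) [gALet.getD i (0, 0)] = true := by
  decide +kernel

theorem gA_ne : diffW [gALet.getD 0 (0, 0)] [] = true := by decide +kernel

variable {T : Tables} {K : Type*} [Field K] [CharP K 2] (X : Twist e6Fold T K) [hS : Setup X]
  [Invol X]

include hS in
theorem altA_equiv : Nonempty (↥(altA X) ≃* ↥(alternatingGroup (Fin 8))) := by
  classical
  obtain ⟨e⟩ := Cfsg.Agent.S3335.main 6 (by norm_num)
  set rels : Set (FreeGroup (Fin 6)) :=
    {g | ∃ i : Fin 6, i.val = 0 ∧ g = FreeGroup.of i ^ 3} ∪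
      {g | ∃ i : Fin 6, 1 ≤ i.val ∧ g = FreeGroup.of i ^ 2} ∪
       {g | ∃ i j : Fin 6, j.val = i.val + 1 ∧ g = (FreeGroup.of i * FreeGroup.of j) ^ 3} ∪
       {g | ∃ i j : Fin 6, i.val + 1 < j.val ∧ g = (FreeGroup.of i * FreeGroup.of j) ^ 2}
  let f : Fin 6 → ↥X.grp := fun i => yW X (wdC [i.val])
  have happ : ∀ a b : List ℕ, yW X (wdC (a ++ b)) = yW X (wdC a) * yW X (wdC b) := by
    intro a b
    rw [← yW_append, wdC, List.flatMap_append]
    rfl
  let φ : PresentedGroup rels →* ↥X.grp := PresentedGroup.toGroup (f := f) (by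
    intro r hr
    rcases hr with ((⟨i, hi, rfl⟩ | ⟨i, hi, rfl⟩) | ⟨i, j, hij, rfl⟩) | ⟨i, j, hij, rfl⟩
    · have h := yW_eq X carm_cube
      rw [show ([0, 0, 0] : List ℕ) = [0] ++ ([0] ++ [0]) from rfl, happ, happ, yW_nil] at h
      simpa [f, hi, pow_succ, mul_assoc] using h
    · have h := yW_eq X (carm_sq i.val i.isLt hi)
      rw [show ([i.val, i.val] : List ℕ) = [i.val] ++ [i.val] from rfl, happ, yW_nil] at h
      simpa [f, pow_two] using h
    · have hi := j.isLt
      have h := yW_eq X (carm_braid i.val (by omega))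
      rw [show ([i.val, i.val + 1, i.val, i.val + 1, i.val, i.val + 1] : List ℕ) =
        [i.val] ++ ([i.val + 1] ++ ([i.val] ++ ([i.val + 1] ++ ([i.val] ++ [i.val + 1])))) from rfl,
        happ, happ, happ, happ, happ, yW_nil, ← hij] at h
      simpa [f, pow_succ, mul_assoc] using h
    · have h := yW_eq X (carm_far j.val j.isLt i.val (by omega) hij)
      rw [show ([i.val, j.val, i.val, j.val] : List ℕ) = [i.val] ++ ([j.val] ++ ([i.val] ++ [j.val]))
        from rfl, happ, happ, happ, yW_nil] at h
      simpa [f, pow_two, mul_assoc] using h)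
  have hA : ∀ L : List ℕ, (∀ k ∈ L, k < 6) → yW X (wdA L) ∈ altA X := by
    intro L
    induction L with
    | nil => intro _; exact one_mem _
    | cons k L ih =>
      intro h
      rw [show wdA (k :: L) = [gALet.getD k (0, 0)] ++ wdA L from rfl, yW_append]
      exact mul_mem (Subgroup.subset_closure ⟨⟨k, h k List.mem_cons_self⟩, rfl⟩)
        (ih fun j hj => h j (List.mem_cons_of_mem _ hj))
  have hR : ∀ L : List ℕ, (∀ k ∈ L, k < 6) → yW X (wdC L) ∈ φ.range := by
    intro L
    induction L with
    | nil => intro _; exact one_mem _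
    | cons k L ih =>
      intro h
      rw [show (k :: L) = [k] ++ L from rfl, happ]
      exact mul_mem ⟨PresentedGroup.of ⟨k, h k List.mem_cons_self⟩, by simp [φ, f]⟩
        (ih fun j hj => h j (List.mem_cons_of_mem _ hj))
  have hrange : φ.range = altA X := by
    refine le_antisymm ?_ ((Subgroup.closure_le _).2 ?_)
    · rw [MonoidHom.range_eq_map, ← PresentedGroup.closure_range_of, MonoidHom.map_closure,
        Subgroup.closure_le]
      rintro _ ⟨_, ⟨i, rfl⟩, rfl⟩
      have : φ (PresentedGroup.of i) = yW X (wdA (altWords.getD i.val [])) := by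
        simp [φ, f, wdC]
      rw [SetLike.mem_coe, this]
      exact hA _ (wdC_lt i.val i.isLt)
    · rintro _ ⟨i, rfl⟩
      rw [SetLike.mem_coe, show gA X i = yW X [gALet.getD i.val (0, 0)] from rfl,
        ← yW_eq X (back_ok i.val i.isLt)]
      exact hR _ (altBack_lt i.val i.isLt)
  have : IsSimpleGroup (PresentedGroup rels) := by
    have := alternatingGroup.isSimpleGroup (α := Fin 8) (by simp)
    have : Nontrivial (PresentedGroup rels) := e.toEquiv.nontrivial
    exact IsSimpleGroup.isSimpleGroup_of_surjective e.symm.toMonoidHom e.symm.surjective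
  have hinj : Function.Injective φ := by
    rcases (MonoidHom.normal_ker φ).eq_bot_or_eq_top with h | h
    · exact (MonoidHom.ker_eq_bot_iff φ).1 h
    · exfalso
      have hbot : φ.range = ⊥ := by
        rw [MonoidHom.range_eq_bot_iff]
        exact MonoidHom.ker_eq_top_iff.1 h
      have hm : gA X 0 ∈ altA X := Subgroup.subset_closure ⟨0, rfl⟩
      rw [← hrange, hbot, Subgroup.mem_bot] at hm
      exact yW_ne X gA_ne hm
  exact ⟨(MulEquiv.subgroupCongr hrange.symm).trans ((MonoidHom.ofInjective hinj).symm.trans e)⟩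

end H17.TE6Five
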