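import Cfsg.Agent.H53.RootGroupWeyl
import Mathlib.GroupTheory.Perm.Cycle.Type

/-!
A minimal parabolic subgroup of a system of root subgroups, and the centraliser of an element of order
prime to `B` of its Levi factor.
-/

set_option autoImplicit false
set_option linter.unusedSectionVars false

namespace H17.TE6Five

open H53
open H53.RootGroupSys

variable {G : Type*} [Group G] {ι R : Type*} {S : RootGroupSys G ι R} (hS : S.Axioms) (i : ι)

/-- The Levi factor. -/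
def levi (S : RootGroupSys G ι R) (i : ι) : Subgroup G :=
  S.H ⊔ Subgroup.closure (insert (S.n i) (S.U (S.a i) : Set G))

theorem H_le_levi : S.H ≤ levi S i := le_sup_left

theorem n_mem_levi : S.n i ∈ levi S i :=
  (le_sup_right : _ ≤ levi S i) (Subgroup.subset_closure (Set.mem_insert _ _))

theorem Ua_le_levi : S.U (S.a i) ≤ levi S i := fun _ hx =>
  (le_sup_right : _ ≤ levi S i) (Subgroup.subset_closure (Set.mem_insert_of_mem _ hx))

/-- The parabolic subgroup. -/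
def par (S : RootGroupSys G ι R) (i : ι) : Subgroup G := S.Uhat i ⊔ levi S i

/-- The product of `U_a` and `H`. -/
def torBorel (S : RootGroupSys G ι R) (i : ι) : Set G :=
  {g | ∃ x ∈ S.U (S.a i), ∃ h ∈ S.H, g = x * h}

include hS

theorem Ua_neg_le_levi : S.U (S.neg (S.a i)) ≤ levi S i := fun _ hy => by
  obtain ⟨x, hx, rfl⟩ := Uneg_le hS i hy
  exact mul_mem (mul_mem (n_mem_levi i) (Ua_le_levi i hx)) (inv_mem (n_mem_levi i))

theorem levi_conj_Uhat {l g : G} (hl : l ∈ levi S i) (hg : g ∈ S.Uhat i) : l * g * l⁻¹ ∈ S.Uhat i := by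
  have hle : levi S i ≤ Subgroup.closure ((S.H : Set G) ∪ insert (S.n i) (S.U (S.a i) : Set G)) :=
    sup_le (fun z hz => Subgroup.subset_closure (Or.inl hz))
      (Subgroup.closure_mono fun z hz => Or.inr hz)
  refine (Subgroup.closure_induction
    (p := fun x _ => ∀ g ∈ S.Uhat i, x * g * x⁻¹ ∈ S.Uhat i ∧ x⁻¹ * g * x ∈ S.Uhat i) ?_ ?_ ?_ ?_ (hle hl) g hg).1
  · rintro x (hx | rfl | hx) g hg
    · exact ⟨H_conj_Uhat hS i hx hg, by simpa using H_conj_Uhat hS i (inv_mem hx) hg⟩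
    · exact ⟨n_conj_Uhat hS i hg, n_inv_conj_Uhat hS i hg⟩
    · exact ⟨Ua_conj_Uhat hS i hx hg, by simpa using Ua_conj_Uhat hS i (inv_mem hx) hg⟩
  · intro g hg; simpa using hg
  · intro x y _ _ hx hy g hg
    refine ⟨?_, ?_⟩
    · have := (hx _ (hy g hg).1).1; simpa [mul_assoc] using this
    · have := (hy _ (hx g hg).2).2; simpa [mul_assoc] using this
  · intro x _ hx g hg; simpa using (hx g hg).symm

omit hS in
theorem levi_le_par : levi S i ≤ par S i := le_sup_right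

omit hS in
theorem Uhat_le_par : S.Uhat i ≤ par S i := le_sup_left

theorem mem_par {p : G} (hp : p ∈ par S i) : ∃ v ∈ S.Uhat i, ∃ l ∈ levi S i, p = v * l := by
  have hn : levi S i ≤ Subgroup.normalizer (S.Uhat i : Set G) := fun l hl => by
    rw [Subgroup.mem_normalizer_iff]
    refine fun g => ⟨levi_conj_Uhat hS i hl, fun h => ?_⟩
    simpa [mul_assoc] using levi_conj_Uhat hS i (inv_mem hl) h
  rw [par, ← SetLike.mem_coe, Subgroup.coe_mul_of_right_le_normalizer_left _ _ hn] at hp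
  obtain ⟨v, hv, l, hl, rfl⟩ := Set.mem_mul.1 hp
  exact ⟨v, hv, l, hl, rfl⟩

theorem B_le_par : S.B ≤ par S i := by
  refine sup_le ?_ ((H_le_levi i).trans (levi_le_par i))
  intro u hu
  obtain ⟨v, hv, x, hx, rfl⟩ := Uplus_split hS i hu
  exact mul_mem (Uhat_le_par i hv) (levi_le_par i (Ua_le_levi i hx))

/-- The Levi factor is `U_a H ∪ U_a H n U_a`. -/
theorem mem_levi {g : G} (hg : g ∈ levi S i) :
    g ∈ torBorel S i ∨ ∃ b ∈ torBorel S i, ∃ y ∈ S.U (S.a i), g = b * S.n i * y := by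
  let p : G → Prop := fun g =>
    g ∈ torBorel S i ∨ ∃ b ∈ torBorel S i, ∃ y ∈ S.U (S.a i), g = b * S.n i * y
  have hHU : ∀ {h x : G}, h ∈ S.H → x ∈ S.U (S.a i) → h * x * h⁻¹ ∈ S.U (S.a i) := fun hh hx => by
    simpa using acts_conj_mem (acts_H hS hh) hx
  have hH : ∀ h ∈ S.H, ∀ g, p g → p (h * g) := by
    rintro h hh g (⟨x, hx, h', hh', rfl⟩ | ⟨b, ⟨x, hx, h', hh', rfl⟩, y, hy, rfl⟩)
    · exact Or.inl ⟨_, hHU hh hx, h * h', mul_mem hh hh', by group⟩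
    · exact Or.inr ⟨_, ⟨_, hHU hh hx, h * h', mul_mem hh hh', rfl⟩, y, hy, by group⟩
  have hU : ∀ z ∈ S.U (S.a i), ∀ g, p g → p (z * g) := by
    rintro z hz g (⟨x, hx, h, hh, rfl⟩ | ⟨b, ⟨x, hx, h, hh, rfl⟩, y, hy, rfl⟩)
    · exact Or.inl ⟨z * x, mul_mem hz hx, h, hh, by group⟩
    · exact Or.inr ⟨_, ⟨z * x, mul_mem hz hx, h, hh, rfl⟩, y, hy, by group⟩
  have hRH : ∀ k ∈ S.H, ∀ g, p g → p (g * k) := by
    rintro k hk g (⟨x, hx, h, hh, rfl⟩ | ⟨b, ⟨x, hx, h, hh, rfl⟩, y, hy, rfl⟩)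
    · exact Or.inl ⟨x, hx, h * k, mul_mem hh hk, by group⟩
    · exact Or.inr ⟨_, ⟨x, hx, _, mul_mem hh (hS.n_norm i k hk), rfl⟩, _, hHU (inv_mem hk) hy, by group⟩
  have hRU : ∀ z ∈ S.U (S.a i), ∀ g, p g → p (g * z) := by
    rintro z hz g (⟨x, hx, h, hh, rfl⟩ | ⟨b, ⟨x, hx, h, hh, rfl⟩, y, hy, rfl⟩)
    · exact Or.inl ⟨_, mul_mem hx (hHU hh hz), h, hh, by group⟩
    · exact Or.inr ⟨_, ⟨x, hx, h, hh, rfl⟩, y * z, mul_mem hy hz, by group⟩
  have hnxn : ∀ x ∈ S.U (S.a i), p (S.n i * x * S.n i) := by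
    intro x hx
    set m := S.n i * x * (S.n i)⁻¹ with hm
    have hm' : m ∈ S.U (S.neg (S.a i)) := hS.sigma_a i ▸ acts_conj_mem (acts_n hS i) hx
    have e : S.n i * x * S.n i = m * (S.n i * S.n i) := by rw [hm]; group
    rw [e]
    refine hRH _ (hS.n_sq i) _ ?_
    by_cases h1 : m = 1
    · exact Or.inl ⟨1, one_mem _, 1, one_mem _, by rw [h1, one_mul]⟩
    · obtain ⟨x₁, hx₁, h', hh', x₂, hx₂, he⟩ := hS.rankone i m hm' h1
      exact Or.inr ⟨_, ⟨x₁, hx₁, h', hh', rfl⟩, x₂, hx₂, he⟩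
  have hn : ∀ g, p g → p (S.n i * g) := by
    rintro g (⟨x, hx, h, hh, rfl⟩ | ⟨b, ⟨x, hx, h, hh, rfl⟩, y, hy, rfl⟩)
    · rw [← mul_assoc]
      exact hRH h hh _ (Or.inr ⟨_, ⟨1, one_mem _, 1, one_mem _, rfl⟩, x, hx, by group⟩)
    · obtain ⟨k, hk, he⟩ : ∃ k ∈ S.H, h * S.n i = S.n i * k := by
        refine ⟨(S.n i)⁻¹ * h * S.n i, ?_, by group⟩
        have h' := mul_mem (mul_mem (inv_mem (hS.n_sq i)) (hS.n_norm i h hh)) (hS.n_sq i)
        simpa [mul_assoc] using h'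
      rw [show S.n i * (x * h * S.n i * y) = S.n i * x * S.n i * k * y by
        simp only [mul_assoc]; rw [← mul_assoc h, he]; simp only [mul_assoc]]
      exact hRU y hy _ (hRH k hk _ (hnxn x hx))
  have hall : ∀ z ∈ levi S i, ∀ g, p g → p (z * g) := by
    intro z hz
    have hle : levi S i ≤ Subgroup.closure ((S.H : Set G) ∪ insert (S.n i) (S.U (S.a i) : Set G)) :=
      sup_le (fun z hz => Subgroup.subset_closure (Or.inl hz))
        (Subgroup.closure_mono fun z hz => Or.inr hz)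
    refine (Subgroup.closure_induction (p := fun x _ => (∀ g, p g → p (x * g)) ∧ ∀ g, p g → p (x⁻¹ * g))
      ?_ ?_ ?_ ?_ (hle hz)).1
    · rintro x (hx | rfl | hx)
      · exact ⟨hH x hx, hH _ (inv_mem hx)⟩
      · refine ⟨hn, fun g hg => ?_⟩
        obtain ⟨h, hh, he⟩ := n_inv_eq hS i
        rw [he, mul_assoc]
        exact hH h hh _ (hn g hg)
      · exact ⟨hU x hx, hU _ (inv_mem hx)⟩
    · exact ⟨fun g hg => by simpa using hg, fun g hg => by simpa using hg⟩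
    · rintro x y _ _ ⟨hx, hx'⟩ ⟨hy, hy'⟩
      exact ⟨fun g hg => by rw [mul_assoc]; exact hx _ (hy g hg),
        fun g hg => by rw [mul_inv_rev, mul_assoc]; exact hy' _ (hx' g hg)⟩
    · rintro x _ ⟨hx, hx'⟩
      exact ⟨hx', by simpa using hx⟩
  simpa [p] using hall g hg 1 (Or.inl ⟨1, one_mem _, 1, one_mem _, by group⟩)

theorem par_cases {p : G} (hp : p ∈ par S i) :
    p ∈ S.B ∨ ∃ b ∈ S.B, ∃ b' ∈ S.B, p = b * S.n i * b' := by
  obtain ⟨v, hv, l, hl, rfl⟩ := mem_par hS i hp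
  have hvB : v ∈ S.B := Uplus_le_B (Uhat_le_Uplus i hv)
  have hb : ∀ {z : G}, z ∈ torBorel S i → z ∈ S.B := fun ⟨x, hx, h, hh, e⟩ =>
    e ▸ mul_mem (Uplus_le_B (U_le_Uplus (hS.pos_a i) hx)) (H_le_B hh)
  rcases mem_levi hS i hl with hl | ⟨b, hb', y, hy, rfl⟩
  · exact Or.inl (mul_mem hvB (hb hl))
  · exact Or.inr ⟨v * b, mul_mem hvB (hb hb'), y, Uplus_le_B (U_le_Uplus (hS.pos_a i) hy), by group⟩

theorem cell_left {w : G} {π : Equiv.Perm R} (hπ : S.Acts w π) (hpos : S.pos (π⁻¹ (S.a i)))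
    {b b' : G} (hb : b ∈ S.B) (hb' : b' ∈ S.B) :
    ∃ c ∈ S.B, ∃ c' ∈ S.B, b * S.n i * b' * w = c * (S.n i * w) * c' := by
  obtain ⟨u, hu, h, hh, rfl⟩ := mem_B hS hb'
  obtain ⟨v, hv, x, hx, hux⟩ := Uplus_split hS i (H_conj_Uplus hS (inv_mem hh) hu)
  have hb₀ : S.n i * (h * v) * (S.n i)⁻¹ ∈ S.B := by
    have : S.n i * (h * v) * (S.n i)⁻¹ = (S.n i * h * (S.n i)⁻¹) * (S.n i * v * (S.n i)⁻¹) := by group
    rw [this]
    exact mul_mem (H_le_B (hS.n_norm i h hh)) (Uplus_le_B (Uhat_le_Uplus i (n_conj_Uhat hS i hv)))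
  refine ⟨_, mul_mem hb hb₀, _, acts_inv_pos hS hπ hpos hx, ?_⟩
  have : u * h = h * v * x := by rw [mul_assoc, ← hux]; group
  rw [this]; group

theorem double_coset (hsep : Sep S) (hB : ∀ y ∈ S.B, y ^ 5 = 1 → y = 1) {x g : G}
    (hx : x ∈ par S i) (hx5 : x ^ 5 = 1) (hx1 : x ≠ 1) (hg : g * x = x * g) [Finite R] :
    ∃ p ∈ par S i, ∃ q ∈ par S i, ∃ w ∈ S.N, ∃ π, S.Acts w π ∧ π (S.a i) = S.a i ∧ g = p * w * q := by
  obtain ⟨p₀, hp₀, w₀, hw₀, q₀, hq₀, hg₀⟩ := exists_BNB hS g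
  obtain ⟨π₀, hπ₀⟩ := exists_acts hS hw₀
  have hnP : S.n i ∈ par S i := levi_le_par i (n_mem_levi i)
  -- make the inverse image of the fundamental root positive
  obtain ⟨p₁, hp₁, w₁, hw₁, π₁, hπ₁, hpos₁, hg₁⟩ : ∃ p ∈ par S i, ∃ w ∈ S.N, ∃ π, S.Acts w π ∧
      S.pos (π⁻¹ (S.a i)) ∧ g = p * w * q₀ := by
    by_cases h : S.pos (π₀⁻¹ (S.a i))
    · exact ⟨p₀, B_le_par hS i hp₀, w₀, hw₀, π₀, hπ₀, h, hg₀⟩
    · refine ⟨p₀ * (S.n i)⁻¹, mul_mem (B_le_par hS i hp₀) (inv_mem hnP), S.n i * w₀,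
        mul_mem (n_mem_N i) hw₀, S.σ i * π₀, acts_mul (acts_n hS i) hπ₀, ?_, by rw [hg₀]; group⟩
      rw [mul_inv_rev, sigma_inv hS, Equiv.Perm.mul_apply, hS.sigma_a, W_neg hS (inv_mem hπ₀.1),
        hS.pos_neg]
      exact h
  obtain ⟨w, hw, π, hπ, hpos, hpos', q, hq, hg₂⟩ : ∃ w ∈ S.N, ∃ π, S.Acts w π ∧
      S.pos (π⁻¹ (S.a i)) ∧ S.pos (π (S.a i)) ∧ ∃ q ∈ par S i, g = p₁ * w * q := by
    by_cases h : S.pos (π₁ (S.a i))
    · exact ⟨w₁, hw₁, π₁, hπ₁, hpos₁, h, q₀, B_le_par hS i hq₀, hg₁⟩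
    · refine ⟨w₁ * S.n i, mul_mem hw₁ (n_mem_N i), π₁ * S.σ i, acts_mul hπ₁ (acts_n hS i), ?_, ?_,
        (S.n i)⁻¹ * q₀, mul_mem (inv_mem hnP) (B_le_par hS i hq₀), by rw [hg₁]; group⟩
      · rw [mul_inv_rev, sigma_inv hS, Equiv.Perm.mul_apply]
        refine hS.sigma_pos i _ hpos₁ fun e => h ?_
        rw [Equiv.Perm.inv_eq_iff_eq] at e
        rw [← e]
        exact hS.pos_a i
      · rw [Equiv.Perm.mul_apply, hS.sigma_a, W_neg hS hπ₁.1, hS.pos_neg]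
        exact h
  refine ⟨p₁, hp₁, q, hq, w, hw, π, hπ, ?_, hg₂⟩
  have hy : p₁⁻¹ * x * p₁ ∈ par S i := mul_mem (mul_mem (inv_mem hp₁) hx) hp₁
  have hy' : q * x * q⁻¹ ∈ par S i := mul_mem (mul_mem hq hx) (inv_mem hq)
  have notB : ∀ c : G, c * x * c⁻¹ ∉ S.B := fun c hc => hx1 (by
    have h := hB _ hc (by rw [conj_pow, hx5]; group)
    rwa [conj_eq_one_iff] at h)
  obtain ⟨b₁, hb₁, b₁', hb₁', e₁⟩ := (par_cases hS i hy).resolve_left (by
    have := notB p₁⁻¹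
    rwa [inv_inv] at this)
  obtain ⟨b₂, hb₂, b₂', hb₂', e₂⟩ := (par_cases hS i hy').resolve_left (notB q)
  obtain ⟨c₁, hc₁, c₁', hc₁', f₁⟩ := cell_left hS i hπ hpos hb₁ hb₁'
  obtain ⟨k, hk, hkn⟩ : ∃ k ∈ S.H, (S.n i)⁻¹ = S.n i * k :=
    ⟨(S.n i * S.n i)⁻¹, inv_mem (hS.n_sq i), by group⟩
  obtain ⟨c₂, hc₂, c₂', hc₂', f₂⟩ := cell_left hS i (acts_inv hπ) (by rwa [inv_inv])
    (inv_mem hb₂') (mul_mem (H_le_B hk) (inv_mem hb₂))
  have f₃ : w * (b₂ * S.n i * b₂') = c₂'⁻¹ * (w * S.n i) * (k * c₂⁻¹) := by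
    have e : (b₂ * S.n i * b₂')⁻¹ = b₂'⁻¹ * S.n i * (k * b₂⁻¹) := by
      rw [mul_inv_rev, mul_inv_rev, hkn]; group
    calc w * (b₂ * S.n i * b₂') = ((b₂ * S.n i * b₂')⁻¹ * w⁻¹)⁻¹ := by group
      _ = _ := by rw [e, f₂, mul_inv_rev, mul_inv_rev, mul_inv_rev, hkn, inv_inv]; group
  have hcomm : (p₁⁻¹ * x * p₁) * w = w * (q * x * q⁻¹) := by
    calc (p₁⁻¹ * x * p₁) * w = p₁⁻¹ * (x * g) * q⁻¹ := by rw [hg₂]; group
      _ = _ := by rw [← hg, hg₂]; group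
  rw [e₁, e₂, f₁, f₃] at hcomm
  have hH := coset_unique hS (BN_eq hS hsep) hsep.B_V hsep.U_ne hsep.a_inj
    (mul_mem (n_mem_N i) hw) (mul_mem hw (n_mem_N i)) hc₁ (inv_mem hc₂') hc₁'
    (mul_mem (H_le_B hk) (inv_mem hc₂)) hcomm
  have hperm : S.σ i * π = π * S.σ i := inv_mul_eq_one.1 (acts_unique hS hsep
    (acts_mul (acts_inv (acts_mul (acts_n hS i) hπ)) (acts_mul hπ (acts_n hS i))) (acts_H hS hH))
  have h := congrArg (fun τ : Equiv.Perm R => τ (S.a i)) hperm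
  simp only [Equiv.Perm.mul_apply, hS.sigma_a, W_neg hS hπ.1] at h
  by_contra hne
  exact (hS.pos_neg _).1 (h ▸ hS.sigma_pos i _ hpos' hne) hpos'

omit hS in
theorem exists_fixed_coset [Finite G] {W : Subgroup G} {k : ℕ} (hW : Nat.card W = 2 ^ k) {x v : G}
    (hx5 : x ^ 5 = 1) (hxW : ∀ c ∈ W, x * c * x⁻¹ ∈ W) (hv : v⁻¹ * x * v * x⁻¹ ∈ W) :
    ∃ c ∈ W, x * (v * c) = v * c * x := by
  classical
  have : Fintype W := Fintype.ofFinite _
  have hmem : ∀ c : W, (v⁻¹ * x * v * x⁻¹) * (x * (c : G) * x⁻¹) ∈ W := fun c => mul_mem hv (hxW _ c.2)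
  let f : W → W := fun c => ⟨_, hmem c⟩
  have hf : ∀ c : W, v * (f c : G) = x * (v * c) * x⁻¹ := fun c => by simp only [f]; group
  have hit : ∀ (n : ℕ) (c : W), v * ((f^[n] c : W) : G) = x ^ n * (v * c) * (x ^ n)⁻¹ := by
    intro n
    induction n with
    | zero => intro c; simp
    | succ n ih => intro c; rw [Function.iterate_succ_apply', hf, ih, pow_succ']; group
  have h5 : ∀ c, f^[5] c = c := fun c => Subtype.ext (mul_left_cancel (a := v) (by rw [hit, hx5]; group))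
  let σ : Equiv.Perm W := ⟨f, f^[4], fun c => by
      rw [← Function.iterate_succ_apply]; exact h5 c,
    fun c => by rw [← Function.iterate_succ_apply' f 4]; exact h5 c⟩
  have : Fact (Nat.Prime 5) := ⟨Nat.prime_five⟩
  obtain ⟨c, hc⟩ := Equiv.Perm.exists_fixed_point_of_prime (α := W) (p := 5) (n := 1) (σ := σ) (by
      rw [← Nat.card_eq_fintype_card, hW]
      exact fun h => absurd (Nat.le_of_dvd (by norm_num) (Nat.prime_five.dvd_of_dvd_pow h)) (by norm_num))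
    (Equiv.ext fun c => by rw [pow_one, Equiv.Perm.coe_pow]; exact h5 c)
  refine ⟨c, c.2, ?_⟩
  have e := hf c
  rw [show f c = c from hc] at e
  rw [eq_mul_inv_iff_mul_eq] at e
  exact e.symm

/-- An element centralising `x` of the Levi factor is a centralising element of the radical, an
element of `N` fixing the root, and an element of the parabolic subgroup. -/
theorem centraliser_form [Finite G] [Finite R] (hsep : Sep S) (hB : ∀ y ∈ S.B, y ^ 5 = 1 → y = 1)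
    (hV : IsPGroup 2 S.Uplus) {x g : G} (hx : x ∈ levi S i) (hx5 : x ^ 5 = 1) (hx1 : x ≠ 1)
    (hg : g * x = x * g) : ∃ v ∈ S.Uhat i, v * x = x * v ∧ ∃ q ∈ par S i, ∃ w ∈ S.N, ∃ π,
      S.Acts w π ∧ π (S.a i) = S.a i ∧ g = v * w * q := by
  obtain ⟨p, hp, q₀, hq₀, w, hw, π, hπ, hfix, rfl⟩ :=
    double_coset hS i hsep hB (levi_le_par i hx) hx5 hx1 hg
  obtain ⟨v, hv, l, hl, rfl⟩ := mem_par hS i hp
  have hwl : ∀ l ∈ levi S i, w⁻¹ * l * w ∈ levi S i := by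
    have hfix' : π⁻¹ (S.a i) = S.a i := by rw [Equiv.Perm.inv_eq_iff_eq, hfix]
    have hU : ∀ z ∈ S.U (S.a i), w⁻¹ * z * w ∈ levi S i := fun z hz => by
      have h := acts_conj_mem (acts_inv hπ) hz
      rw [hfix', inv_inv] at h
      exact Ua_le_levi i h
    have hUn : ∀ z ∈ S.U (S.neg (S.a i)), w⁻¹ * z * w ∈ levi S i := fun z hz => by
      have h := acts_conj_mem (acts_inv hπ) hz
      rw [W_neg hS (inv_mem hπ.1), hfix', inv_inv] at h
      exact Ua_neg_le_levi hS i h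
    have hH : ∀ z ∈ S.H, w⁻¹ * z * w ∈ levi S i := fun z hz => by
      have h := acts_mul (acts_mul (acts_inv hπ) (acts_H hS hz)) hπ
      rw [mul_one, inv_mul_cancel] at h
      exact H_le_levi i (mem_H_of_acts_one hS hsep
        (mul_mem (mul_mem (inv_mem hw) (H_le_N hz)) hw) h)
    have hn : w⁻¹ * S.n i * w ∈ levi S i := by
      obtain ⟨x₀, hx₀, hx₀1⟩ :=
        (S.U (S.neg (S.a i))).bot_or_exists_ne_one.resolve_left (hsep.U_ne _)
      obtain ⟨x₁, hx₁, h', hh', x₂, hx₂, he⟩ := hS.rankone i x₀ hx₀ hx₀1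
      rw [show w⁻¹ * S.n i * w = (w⁻¹ * h'⁻¹ * w) * (w⁻¹ * x₁⁻¹ * w) * (w⁻¹ * x₀ * w) *
        (w⁻¹ * x₂⁻¹ * w) by rw [he]; group]
      exact mul_mem (mul_mem (mul_mem (hH _ (inv_mem hh')) (hU _ (inv_mem hx₁))) (hUn _ hx₀))
        (hU _ (inv_mem hx₂))
    intro l hl
    have hle : levi S i ≤ Subgroup.closure ((S.H : Set G) ∪ insert (S.n i) (S.U (S.a i) : Set G)) :=
      sup_le (fun z hz => Subgroup.subset_closure (Or.inl hz))
        (Subgroup.closure_mono fun z hz => Or.inr hz)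
    refine Subgroup.closure_induction (p := fun z _ => w⁻¹ * z * w ∈ levi S i) ?_ ?_ ?_ ?_ (hle hl)
    · rintro z (hz | rfl | hz)
      exacts [hH z hz, hn, hU z hz]
    · simp
    · intro a b _ _ ha hb; simpa [mul_assoc] using mul_mem ha hb
    · intro a _ ha; simpa [mul_assoc] using inv_mem ha
  set q := w⁻¹ * l * w * q₀ with hq
  have hqP : q ∈ par S i := mul_mem (levi_le_par i (hwl l hl)) hq₀
  have hge : v * l * w * q₀ = v * w * q := by rw [hq]; group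
  rw [hge] at hg ⊢
  set W : Subgroup G := S.Uhat i ⊓ (par S i).map (MulAut.conj w).toMonoidHom
  have hxP : x ∈ (par S i).map (MulAut.conj w).toMonoidHom :=
    ⟨w⁻¹ * x * w, levi_le_par i (hwl x hx), by simp [mul_assoc]⟩
  have hxW : ∀ c ∈ W, x * c * x⁻¹ ∈ W := fun c hc =>
    Subgroup.mem_inf.2 ⟨levi_conj_Uhat hS i hx hc.1, mul_mem (mul_mem hxP hc.2) (inv_mem hxP)⟩
  have hvW : v⁻¹ * x * v * x⁻¹ ∈ W := by
    refine Subgroup.mem_inf.2 ⟨?_, ?_⟩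
    · have := mul_mem (inv_mem hv) (levi_conj_Uhat hS i hx hv)
      simpa [mul_assoc] using this
    · have e : v⁻¹ * x * v = w * (q * x * q⁻¹) * w⁻¹ := by
        calc v⁻¹ * x * v = v⁻¹ * (x * (v * w * q)) * q⁻¹ * w⁻¹ := by group
          _ = _ := by rw [← hg]; group
      refine mul_mem ?_ (inv_mem hxP)
      rw [e]
      exact ⟨_, mul_mem (mul_mem hqP (levi_le_par i hx)) (inv_mem hqP), rfl⟩
  obtain ⟨k, hk⟩ := IsPGroup.iff_card.1 (hV.to_le (show W ≤ S.Uplus from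
    inf_le_left.trans (Uhat_le_Uplus i)))
  obtain ⟨c, hc, hfc⟩ := exists_fixed_coset hk hx5 hxW hvW
  obtain ⟨c', hc', hcc⟩ := hc.2
  refine ⟨v * c, mul_mem hv hc.1, hfc.symm, c'⁻¹ * q, mul_mem (inv_mem hc') hqP, w, hw, π, hπ, hfix, ?_⟩
  rw [MulEquiv.coe_toMonoidHom, MulAut.conj_apply] at hcc
  rw [← hcc]; group

end H17.TE6Five
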