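import Cfsg.Agent.H17.TE6Five.Eval
import Cfsg.Agent.H17.TE6Five.Parab

/-!
The root group system of `²E₆(2)` in words: the short fundamental root subgroup, the torus, and the
representatives of the Weyl group.
-/

set_option autoImplicit false
set_option linter.unusedSectionVars false
set_option maxRecDepth 100000

namespace H17.TE6Five

open Cfsg.Lie H52 H17.HeisDeg.TwAct
open H60.TE6 (val idY toK)
open H53 (RootGroupSys)
open H53.RootGroupSys

/-- The letters of the representative of a fundamental reflection. -/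
def nLet (J : ℕ) : List (ℕ × ℕ) := nLetL.getD J []

/-- The word of a product of representatives. -/
def nWd (L : List ℕ) : List (ℕ × ℕ) := L.flatMap nLet

/-- The root letters of a representative in the ambient group. -/
def nE (J : ℕ) : List (ℕ × ℕ) :=
  (orbL J).flatMap fun i => [(simpL.getD i 0, 1), (negL.getD (simpL.getD i 0) 0, 1), (simpL.getD i 0, 1)]

theorem nE_ok : ∀ J < 4, okW (nE J) = true ∧ okW (nLet J) = true ∧
    Nat.beq (evR (nE J) idY) (evR (tW (nLet J)) idY) = true := by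
  decide +kernel

theorem simp_ok : ∀ i < 6, chevE6.simple i = simpL.getD i 0 ∧
    chevE6.neg (chevE6.simple i) = negL.getD (simpL.getD i 0) 0 := by
  decide +kernel

/-- The reflection of a class on the roots of `F₄`. -/
def sgJ (J : ℕ) : Equiv.Perm (Fin chevF4.nroots) :=
  if h : J < chevF4.rank then e6Fold.W'.sigma ⟨J, h⟩ else 1

/-- The permutation of a word. -/
def pL (L : List ℕ) : Equiv.Perm (Fin chevF4.nroots) := (L.map sgJ).prod

theorem pL_append (a b : List ℕ) : pL (a ++ b) = pL a * pL b := by simp [pL]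

/-- The short fundamental root. -/
def J0 : Fin chevF4.rank := f4J0

/-- The letters of the torus. -/
def hLet (k : ℕ) : List (ℕ × ℕ) :=
  if k = 0 then [] else if k = 1 then [(56, 2), (negL.getD 56 0, 3), (56, 2), (56, 1), (negL.getD 56 0, 1), (56, 1)]
  else [(56, 3), (negL.getD 56 0, 2), (56, 3), (56, 1), (negL.getD 56 0, 1), (56, 1)]

/-- The letters of `n_J(c)` in the ambient group. -/
def ncE (c ci : ℕ) : List (ℕ × ℕ) :=
  [(56, c), (negL.getD 56 0, ci), (56, c), (36, mulc' c), (negL.getD 36 0, mulc' ci), (36, mulc' c)]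
  where mulc' (c : ℕ) : ℕ := H60.TE6.mulc c c

theorem nc_ok : ∀ p ∈ ([(1, 2, 3), (2, 3, 2)] : List (ℕ × ℕ × ℕ)), p.2.1 < 4 ∧ p.2.2 < 4 ∧
    H60.TE6.mulc p.2.1 p.2.2 = 1 ∧ okW (ncE p.2.1 p.2.2) = true ∧ okW (hLet p.1) = true ∧
    Nat.beq (evR (ncE p.2.1 p.2.2 ++ tW (nLet 0)) idY) (evR (tW (hLet p.1)) idY) = true := by
  decide +kernel

theorem hLet_ne : ∀ k < 3, ∀ l < 3, k ≠ l → diffW (hLet k) (hLet l) = true := by decide +kernel

theorem beta_facts : orbL 0 = [0, 5] ∧ tL (56, 0) = [(56, 0), (36, 0)] ∧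
    ∀ c < 4, tL (56, c) = [(56, c), (36, H60.TE6.mulc c c)] := by
  decide +kernel

variable {T : Tables} {K : Type*} [Field K] [CharP K 2] (X : Twist e6Fold T K) [hS : Setup X]
  [Invol X]

local notation "w" => Setup.w X

include hS in
theorem frob4 (a : K) : a ^ (2 * 2) = a := by
  obtain ⟨c, hc, rfl⟩ := Setup.all (X := X) a
  obtain ⟨v0, v1, v2, v3⟩ := H60.TE6.val_vals w
  have h2 : (2 : K) = 0 := CharTwo.two_eq_zero
  have hw := hS.hw
  interval_cases c <;> simp only [v0, v1, v2, v3] <;> grind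

theorem eR_eq {a b : List (ℕ × ℕ)} (ha : okW a = true) (hb : okW b = true)
    (h : Nat.beq (evR a idY) (evR b idY) = true) : eR w a = eR w b := by
  apply Units.ext
  rw [← eR_eval hS.hw ha, ← eR_eval hS.hw hb, Nat.eq_of_beq_eq_true h]

theorem neg_eq_self (a : K) : -a = a := CharTwo.neg_eq a

theorem nElt_eR {i : ℕ} (hi : i < 6) {c ci : ℕ} (h : val w c * val w ci = 1) :
    nElt chevE6 (chevE6.simple i) (val w c) = eR w [(simpL.getD i 0, c),
      (negL.getD (simpL.getD i 0) 0, ci), (simpL.getD i 0, c)] := by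
  rw [Checked.nElt_eq, (simp_ok i hi).2, (simp_ok i hi).1, CharTwo.neg_eq,
    inv_eq_of_mul_eq_one_right h]
  simp [eR, wordRt, mul_assoc]

theorem orb_lt {J : ℕ} {i : ℕ} (hi : i ∈ orbL J) : i < 6 := orbL_lt hi

/-- The representatives of the fundamental reflections. -/
theorem coe_sys_n {J : ℕ} (hJ : J < chevF4.rank) : X.sys.n ⟨J, hJ⟩ = yW X (nLet J) := by
  obtain ⟨h1, h2, h3⟩ := nE_ok J hJ
  apply Subtype.ext
  rw [coe_yW X h2, ← eR_eq X h1 (okW_tW h2) h3]
  show Twist.nJ e6Fold ⟨J, hJ⟩ (fun _ => (1 : K)) = _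
  rw [Twist.nJ, nE, ← orbL_eq ⟨J, hJ⟩]
  induction e6Fold.orb ⟨J, hJ⟩ with
  | nil => simp [eR, wordRt]
  | cons j L ih =>
    rw [List.map_cons, List.prod_cons, ih, List.map_cons, List.flatMap_cons, eR_append, X.sp_val,
      ← nElt_eR X j.isLt (c := 1) (by simp [(H60.TE6.val_vals w).2.1])]
    rw [(H60.TE6.val_vals w).2.1]

theorem nWd_acts : ∀ L : List ℕ, (∀ J ∈ L, J < 4) →
    yW X (nWd L) ∈ X.sys.N ∧ X.sys.Acts (yW X (nWd L)) (pL L) := by
  intro L
  induction L with
  | nil => intro _; exact ⟨one_mem _, acts_one⟩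
  | cons J L ih =>
    intro h
    obtain ⟨h1, h2⟩ := ih fun j hj => h j (List.mem_cons_of_mem _ hj)
    have hJ : J < chevF4.rank := h J List.mem_cons_self
    rw [nWd, List.flatMap_cons, yW_append, ← coe_sys_n X hJ]
    refine ⟨mul_mem (n_mem_N (S := X.sys) ⟨J, hJ⟩) h1, ?_⟩
    rw [pL, List.map_cons, List.prod_cons]
    refine acts_mul ?_ h2
    rw [sgJ, dif_pos hJ]
    exact acts_n X.axioms' ⟨J, hJ⟩

theorem sys_n_J0 : X.sys.n J0 = yW X (nLet 0) := coe_sys_n X (show 0 < 4 by norm_num)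

theorem J0_orb : e6Fold.orb J0 = [e6I0, e6I5] := rfl

/-- The short fundamental root subgroup. -/
theorem mem_Ua {g : ↥X.grp} : g ∈ X.sys.U (X.sys.a J0) ↔ ∃ c < 4, g = yW X [(56, c)] := by
  have key : ∀ c < 4, ∀ t : Fin chevE6.rank → K, t e6I0 = val w c → t e6I5 = val w c ^ 2 →
      Twist.xp e6Fold e6Fold.sp J0 t = ((yW X [(56, c)] : ↥X.grp) : GL chevE6.Idx K) := by
    intro c hc t h0 h5
    have hok : okW [(56, c)] = true := by simp [okW, hc]
    rw [coe_yW X hok, show tW [(56, c)] = tL (56, c) by simp [tW], beta_facts.2.2 c hc, Twist.xp, J0_orb]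
    simp only [List.map_cons, List.map_nil, List.prod_cons, List.prod_nil, h0, h5, eR, wordRt,
      (H60.TE6.val_mulc_table hS.hw c hc c hc).2, mul_one, sq,
      e6Fold_vals.1, e6Fold_vals.2.2.2.2.2.1]
    rfl
  constructor
  · intro hg
    obtain ⟨t, ht, he⟩ := X.mem_E_ap.1 (X.mem_U'.1 hg)
    obtain ⟨c, hc, hv⟩ := hS.all (t e6I0)
    refine ⟨c, hc, Subtype.ext (he.trans (key c hc t hv.symm ?_))⟩
    have h := ht e6I0 (by rw [show e6Fold.orb J0 = [e6I0, e6I5] from rfl]; simp)
    rw [e6Fold_τi.1, hS.hf, ← hv] at h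
    exact h
  · rintro ⟨c, hc, rfl⟩
    refine X.mem_U'.2 (X.mem_E_ap.2 ⟨fun k => if k = e6I0 then val w c else val w c ^ 2, ?_, ?_⟩)
    · intro j hj
      rw [show e6Fold.orb J0 = [e6I0, e6I5] from rfl] at hj
      simp only [List.mem_cons, List.not_mem_nil, or_false] at hj
      rcases hj with rfl | rfl
      · dsimp only
        rw [e6Fold_τi.1, hS.hf, if_pos rfl, if_neg (by decide)]
      · dsimp only
        rw [e6Fold_τi.2.2.2.2.2, hS.hf, if_pos rfl, if_neg (by decide), ← pow_mul]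
        exact (frob4 X _).symm
    · exact (key c hc _ (if_pos rfl) (if_neg (by decide))).symm

theorem hLet_mem_H {k : ℕ} (hk : k < 3) : yW X (hLet k) ∈ X.sys.H := by
  obtain rfl | rfl | rfl : k = 0 ∨ k = 1 ∨ k = 2 := by omega
  · exact one_mem _
  all_goals
    first
      | obtain ⟨hc, hci, hm, hok, hh, he⟩ := nc_ok (1, 2, 3) (by simp)
        exact aux hc hci hm hok hh he
      | obtain ⟨hc, hci, hm, hok, hh, he⟩ := nc_ok (2, 3, 2) (by simp)
        exact aux hc hci hm hok hh he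
where
  aux {k c ci : ℕ} (hc : c < 4) (hci : ci < 4) (hm : H60.TE6.mulc c ci = 1) (hok : okW (ncE c ci) = true)
      (hh : okW (hLet k) = true)
      (he : Nat.beq (evR (ncE c ci ++ tW (nLet 0)) idY) (evR (tW (hLet k)) idY) = true) :
      yW X (hLet k) ∈ X.sys.H := by
    have hv : val w c * val w ci = 1 := by
      rw [← (H60.TE6.val_mulc_table hS.hw c hc ci hci).2, hm, (H60.TE6.val_vals w).2.1]
    set u : Kˣ := ⟨val w c, val w ci, hv, by rw [mul_comm, hv]⟩
    set cf : Fin chevE6.rank → Kˣ := fun i => if i = e6I0 then u else u ^ 2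
    have h04 : (nE 0).length = 6 := rfl
    have hn : Twist.nJ e6Fold J0 (fun j => (cf j : K)) = eR w (ncE c ci) := by
      have hsq : val w (H60.TE6.mulc c c) * val w (H60.TE6.mulc ci ci) = 1 := by
        rw [(H60.TE6.val_mulc_table hS.hw c hc c hc).2, (H60.TE6.val_mulc_table hS.hw ci hci ci hci).2]
        calc val w c * val w c * (val w ci * val w ci) = (val w c * val w ci) * (val w c * val w ci) := by ring
          _ = 1 := by rw [hv, one_mul]
      rw [Twist.nJ, show e6Fold.orb J0 = [e6I0, e6I5] from rfl]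
      simp only [List.map_cons, List.map_nil, List.prod_cons, List.prod_nil, mul_one, X.sp_val]
      have e0 : (cf e6I0 : K) = val w c := by simp [cf, u]
      have e5 : (cf e6I5 : K) = val w (H60.TE6.mulc c c) := by
        rw [(H60.TE6.val_mulc_table hS.hw c hc c hc).2]
        simp [cf, u, sq, show e6I5 ≠ e6I0 by decide]
      rw [e0, e5, nElt_eR X e6I0.isLt hv, nElt_eR X e6I5.isLt hsq, ← eR_append]
      rfl
    have hmem : torus chevE6 (Twist.restr e6Fold J0 cf) ∈ X.torusT := by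
      refine X.torus_mem_torusT (X.restr_mem_cFix J0 fun i hi => ?_)
      rw [show e6Fold.orb J0 = [e6I0, e6I5] from rfl] at hi
      simp only [List.mem_cons, List.not_mem_nil, or_false] at hi
      rcases hi with rfl | rfl
      · rw [e6Fold_τi.1, hS.hf]
        simp [cf, show e6I5 ≠ e6I0 by decide]
      · rw [e6Fold_τi.2.2.2.2.2, hS.hf]
        simp only [cf, if_pos, show e6I5 ≠ e6I0 by decide, if_false, Units.val_pow_eq_pow_val, ← pow_mul]
        exact (frob4 X _).symm
    rw [X.mem_H']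
    have hp := X.hProd_mul_nOne J0 cf
    rw [hn] at hp
    have h1 : okW (tW (nLet 0)) = true := okW_tW (nE_ok 0 (by norm_num)).2.1
    have h2 : okW (ncE c ci ++ tW (nLet 0)) = true := by
      simp only [okW, List.all_append, Bool.and_eq_true] at hok h1 ⊢
      exact ⟨hok, h1⟩
    rw [coe_yW X hh, ← eR_eq X h2 (okW_tW hh) he, eR_append, ← hp,
      ← coe_yW X (nE_ok 0 (by norm_num)).2.1, ← sys_n_J0 X]
    show torus chevE6 _ * Twist.nOne e6Fold K J0 * Twist.nOne e6Fold K J0 ∈ X.torusT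
    rw [mul_assoc]
    exact mul_mem hmem (X.nOne_sq J0)

/-- Generators of the long root subsystem subgroup. -/
noncomputable def gA (i : Fin 6) : ↥X.grp := yW X [gALet.getD i.val (0, 0)]

/-- The long root subsystem subgroup of type `A₃`. -/
noncomputable def altA : Subgroup ↥X.grp := Subgroup.closure (Set.range (gA X))

variable [Fintype K] (hK : Fintype.card K = 2 ^ 2)
include hK

theorem card_H : Nat.card ↥X.sys.H = 3 := by
  rw [show X.sys.H = X.torusT.subgroupOf X.grp from rfl,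
    Nat.card_congr (Subgroup.subgroupOfEquivOfLe X.torusT_le_grp).toEquiv]
  have h := e6_card_torus X hS.hf hK
  norm_num at h
  omega

theorem mem_H_cases {g : ↥X.grp} (hg : g ∈ X.sys.H) : ∃ k < 3, g = yW X (hLet k) := by
  classical
  let f : Fin 3 → ↥X.sys.H := fun k => ⟨_, hLet_mem_H X k.isLt⟩
  have hf : Function.Injective f := fun k l e => Fin.ext (by
    by_contra hne
    exact yW_ne X (hLet_ne k k.isLt l l.isLt hne) (congrArg Subtype.val e))
  have : Finite ↥X.sys.H := Nat.finite_of_card_ne_zero (by rw [card_H X hK]; norm_num)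
  obtain ⟨k, hk⟩ := ((Nat.bijective_iff_injective_and_card f).2
    ⟨hf, by rw [card_H X hK, Nat.card_fin]⟩).2 ⟨g, hg⟩
  exact ⟨k, k.isLt, (congrArg Subtype.val hk).symm⟩

theorem isPGroup_Uplus : IsPGroup 2 ↥X.sys.Uplus := by
  have h : IsPGroup 2 ↥(chevE6.posUnipotent K) := by
    refine IsPGroup.of_card (n := 72) ?_
    rw [checkedE6.card_posUnipotent, hK, ← pow_mul]
    rfl
  exact (h.to_le X.map_Uplus'_le).of_equiv
    (Subgroup.equivMapOfInjective X.sys.Uplus X.grp.subtype X.grp.subtype_injective).symm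

theorem order_five_not_B : ∀ y ∈ X.sys.B, y ^ 5 = 1 → y = 1 := by
  intro y hy h5
  obtain ⟨u, hu, h, hh, rfl⟩ := mem_B X.axioms' hy
  have key : ∀ n : ℕ, ∃ v ∈ X.sys.Uplus, (u * h) ^ n = v * h ^ n := by
    intro n
    induction n with
    | zero => exact ⟨1, one_mem _, by simp⟩
    | succ n ih =>
      obtain ⟨v, hv, e⟩ := ih
      refine ⟨v * (h ^ n * u * (h ^ n)⁻¹), mul_mem hv (H_conj_Uplus X.axioms' (pow_mem hh n) hu), ?_⟩
      rw [pow_succ, e, pow_succ]; group
  obtain ⟨v, hv, e⟩ := key 5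
  rw [h5] at e
  have hmem : h ^ 5 ∈ X.sys.Uplus ⊓ X.sys.N := by
    refine Subgroup.mem_inf.2 ⟨?_, H_le_N (pow_mem hh 5)⟩
    rw [eq_inv_of_mul_eq_one_right e.symm]
    exact inv_mem hv
  rw [X.sep'.U_N, Subgroup.mem_bot] at hmem
  have h3 : h ^ 3 = 1 := by
    have := pow_card_eq_one' (x := (⟨h, hh⟩ : ↥X.sys.H))
    rw [card_H X hK] at this
    exact congrArg Subtype.val this
  have hh1 : h = 1 := by
    have : h = (h ^ 3) ^ 2 * (h ^ 5)⁻¹ := by group
    rw [this, h3, hmem]; group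
  rw [hh1, mul_one] at h5 ⊢
  obtain ⟨k, hk⟩ := isPGroup_Uplus X hK ⟨u, hu⟩
  have hk' : u ^ 2 ^ k = 1 := by simpa using congrArg Subtype.val hk
  have h1 : orderOf u ∣ Nat.gcd 5 (2 ^ k) :=
    Nat.dvd_gcd (orderOf_dvd_of_pow_eq_one h5) (orderOf_dvd_of_pow_eq_one hk')
  rw [Nat.Coprime.gcd_eq_one (Nat.Coprime.pow_right k (by norm_num))] at h1
  exact orderOf_eq_one_iff.1 (Nat.dvd_one.1 h1)

end H17.TE6Five
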