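import Cfsg.Agent.H17.TE6Five.Basic
import Cfsg.Agent.H52.TwistOrderE6

/-!
The elements of order five of `²E₆(2)` form one conjugacy class.
-/

set_option autoImplicit false
set_option linter.unusedSectionVars false
set_option maxRecDepth 100000

namespace H17.TE6Five

open Cfsg.Lie H52 H17.HeisDeg.TwAct

/-- The twisted word of `a ^ i * b ^ j`. -/
def powW (i j : ℕ) : List (ℕ × ℕ) :=
  (List.replicate i aWord).flatten ++ (List.replicate j bWord).flatten

theorem a_five : sameW (powW 5 0) [] = true := by decide +kernel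

theorem b_five : sameW (powW 0 5) [] = true := by decide +kernel

theorem ab_comm : sameW (aWord ++ bWord) (bWord ++ aWord) = true := by decide +kernel

theorem a_ne : diffW aWord [] = true := by decide +kernel

theorem conj_ok : (conjWords.all fun p => sameW (p.2.2 ++ aWord) (powW p.1 p.2.1 ++ p.2.2)) = true := by
  decide +kernel

theorem conj_cover : ∀ i < 5, ∀ j < 5, i + j ≠ 0 →
    (conjWords.any fun p => p.1 == i && p.2.1 == j) = true := by
  decide +kernel

variable {T : Tables} {K : Type*} [Field K] [CharP K 2] (X : Twist e6Fold T K) [hS : Setup X]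
  [Invol X] [Fintype K] (hK : Fintype.card K = 2 ^ 2)

include hK in
theorem isConj_of_orderOf_five (x y : ↥X.grp) (hx : orderOf x = 5) (hy : orderOf y = 5) :
    IsConj x y := by
  classical
  set a := yW X aWord with ha
  set b := yW X bWord with hb
  have hflat : ∀ (n : ℕ) (l : List (ℕ × ℕ)), yW X (List.replicate n l).flatten = yW X l ^ n := by
    intro n l
    induction n with
    | zero => rw [List.replicate_zero, List.flatten_nil, yW_nil, pow_zero]
    | succ n ih => rw [List.replicate_succ, List.flatten_cons, yW_append, ih, pow_succ']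
  have hpow : ∀ i j, yW X (powW i j) = a ^ i * b ^ j := by
    intro i j
    rw [powW, yW_append, hflat, hflat]
  have ha5 : a ^ 5 = 1 := by
    have h := yW_eq X a_five
    rwa [hpow, pow_zero, mul_one, yW_nil] at h
  have hb5 : b ^ 5 = 1 := by
    have h := yW_eq X b_five
    rwa [hpow, pow_zero, one_mul, yW_nil] at h
  have hc : Commute a b := by
    have h := yW_eq X ab_comm
    rwa [yW_append, yW_append] at h
  have hane : a ≠ 1 := yW_ne X a_ne
  have hcj : ∀ i < 5, ∀ j < 5, i + j ≠ 0 → IsConj a (a ^ i * b ^ j) := by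
    intro i hi j hj hij
    obtain ⟨p, hp, he⟩ := List.any_eq_true.1 (conj_cover i hi j hj hij)
    simp only [Bool.and_eq_true, beq_iff_eq] at he
    have h := yW_eq X (List.all_eq_true.1 conj_ok p hp)
    rw [yW_append, yW_append, hpow, he.1, he.2] at h
    exact isConj_iff.2 ⟨yW X p.2.2, mul_inv_eq_iff_eq_mul.2 h⟩
  have hoa : orderOf a = 5 := by
    have : Fact (Nat.Prime 5) := ⟨by norm_num⟩
    exact orderOf_eq_prime ha5 hane
  have hbne : b ≠ 1 := by
    intro h
    have := hcj 0 (by norm_num) 1 (by norm_num) (by norm_num)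
    rw [pow_zero, pow_one, one_mul, h, isConj_one_left] at this
    exact hane this
  have hob : orderOf b = 5 := by
    have : Fact (Nat.Prime 5) := ⟨by norm_num⟩
    exact orderOf_eq_prime hb5 hbne
  have hcomm : ∀ (u : ↥(Subgroup.zpowers a)) (v : ↥(Subgroup.zpowers b)),
      Commute ((Subgroup.zpowers a).subtype u) ((Subgroup.zpowers b).subtype v) := by
    rintro ⟨_, m, rfl⟩ ⟨_, n, rfl⟩
    exact hc.zpow_zpow m n
  set φ := MonoidHom.noncommCoprod (Subgroup.zpowers a).subtype (Subgroup.zpowers b).subtype hcomm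
    with hφ
  have hrep : ∀ u : ↥(Subgroup.zpowers a) × ↥(Subgroup.zpowers b),
      ∃ i < 5, ∃ j < 5, φ u = a ^ i * b ^ j ∧ (i + j = 0 → u = 1) := by
    rintro ⟨⟨u, hu⟩, ⟨v, hv⟩⟩
    rw [mem_zpowers_iff_mem_range_orderOf, Finset.mem_image] at hu hv
    obtain ⟨i, hi, rfl⟩ := hu
    obtain ⟨j, hj, rfl⟩ := hv
    rw [Finset.mem_range, hoa] at hi
    rw [Finset.mem_range, hob] at hj
    refine ⟨i, hi, j, hj, rfl, fun h => ?_⟩
    obtain ⟨rfl, rfl⟩ : i = 0 ∧ j = 0 := by omega
    simp [Prod.ext_iff]
  have hinj : Function.Injective φ := by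
    rw [← MonoidHom.ker_eq_bot_iff, eq_bot_iff]
    intro u hu
    rw [MonoidHom.mem_ker] at hu
    obtain ⟨i, hi, j, hj, he, h0⟩ := hrep u
    rw [Subgroup.mem_bot]
    by_cases hz : i + j = 0
    · exact h0 hz
    · exfalso
      have := hcj i hi j hj hz
      rw [← he, hu, isConj_one_left] at this
      exact hane this
  have hcard : Nat.card ↥φ.range = 5 ^ 2 := by
    rw [← Nat.card_congr (MonoidHom.ofInjective hinj).toEquiv, Nat.card_prod, Nat.card_zpowers,
      Nat.card_zpowers, hoa, hob]
    norm_num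
  have hG : (Nat.card ↥X.grp).factorization 5 = 2 := by
    have h := e6t_card (K := K) (q := 2) Nat.prime_two.isPrimePow hK
    rw [← twistE6_grp X hS.hf hK] at h
    norm_num at h
    have hn : Nat.card ↥X.grp = 5 ^ 2 * (2 ^ 36 * 3 * 33 * 63 * 255 * 513 * 4095 / (3 * 25)) := by
      norm_num
      omega
    rw [hn, Nat.factorization_mul (by norm_num) (by norm_num), Finsupp.add_apply,
      Nat.Prime.factorization_pow (by norm_num), Finsupp.single_eq_same,
      Nat.factorization_eq_zero_of_not_dvd (by norm_num)]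
  have : Fact (Nat.Prime 5) := ⟨by norm_num⟩
  let P : Sylow 5 ↥X.grp := Sylow.ofCard φ.range (by rw [hcard, hG])
  have key : ∀ z : ↥X.grp, orderOf z = 5 → IsConj a z := by
    intro z hz
    have hp : IsPGroup 5 ↥(Subgroup.zpowers z) :=
      IsPGroup.of_card (n := 1) (by rw [Nat.card_zpowers, hz, pow_one])
    obtain ⟨Q, hQ⟩ := hp.exists_le_sylow
    obtain ⟨g, hg⟩ := MulAction.exists_smul_eq ↥X.grp Q P
    have hmem : g * z * g⁻¹ ∈ φ.range := by
      have h1 : g * z * g⁻¹ ∈ ((g • Q : Sylow 5 ↥X.grp) : Subgroup ↥X.grp) := by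
        rw [Sylow.coe_subgroup_smul]
        exact ⟨z, hQ (Subgroup.mem_zpowers z), rfl⟩
      rw [hg] at h1
      exact h1
    obtain ⟨u, hu⟩ := hmem
    obtain ⟨i, hi, j, hj, he, h0⟩ := hrep u
    have hz' : IsConj z (g * z * g⁻¹) := isConj_iff.2 ⟨g, rfl⟩
    rw [← hu, he] at hz'
    refine (hcj i hi j hj fun hij => ?_).trans hz'.symm
    obtain ⟨rfl, rfl⟩ : i = 0 ∧ j = 0 := by omega
    rw [pow_zero, pow_zero, one_mul, isConj_one_left] at hz'
    rw [hz', orderOf_one] at hz
    norm_num at hz
  exact (key x hx).symm.trans (key y hy)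

end H17.TE6Five
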