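/-!
Data for the elements of order five of `²E₆(2)`: tables of root elements, words, and permutations of
the roots of `F₄`.
-/

set_option autoImplicit false
set_option maxRecDepth 100000

namespace H17.TE6Five

/-- Entries of root elements. -/
def tabs0 : List (List (Nat × Nat × Nat)) :=
  [[(1, 46, 1), (2, 47, 1), (3, 48, 1), (4, 49, 1), (5, 50, 1), (6, 51, 1), (7, 52, 1), (8, 53, 1), (9, 54, 1),
  (10, 55, 1), (16, 61, 1), (17, 62, 1), (18, 63, 1), (19, 64, 1), (20, 65, 1), (21, 66, 1), (22, 67, 1), (23,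
  68, 1), (24, 69, 1), (25, 70, 1), (0, 71, 2), (72, 71, 1), (75, 71, 1), (77, 71, 1), (0, 73, 1)], [(0, 25, 1),
  (2, 39, 1), (3, 40, 1), (4, 41, 1), (5, 43, 1), (6, 44, 1), (7, 45, 1), (11, 53, 1), (12, 54, 1), (13, 55, 1),
  (16, 58, 1), (17, 59, 1), (18, 60, 1), (26, 64, 1), (27, 65, 1), (28, 66, 1), (30, 67, 1), (31, 68, 1), (32,
  69, 1), (1, 70, 2), (72, 70, 1), (73, 70, 1), (75, 70, 1), (77, 70, 1), (46, 71, 1), (1, 73, 1), (1, 75, 1)],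
  [(0, 24, 1), (1, 32, 1), (3, 37, 1), (4, 38, 1), (5, 42, 1), (8, 44, 1), (9, 45, 1), (11, 51, 1), (12, 52, 1),
  (14, 55, 1), (16, 57, 1), (19, 59, 1), (20, 60, 1), (26, 62, 1), (27, 63, 1), (29, 66, 1), (33, 67, 1), (34,
  68, 1), (2, 69, 2), (72, 69, 1), (73, 69, 1), (77, 69, 1), (39, 70, 1), (47, 71, 1), (2, 74, 1), (2, 75, 1),
  (2, 76, 1)], [(0, 23, 1), (1, 31, 1), (2, 34, 1), (4, 36, 1), (6, 42, 1), (8, 43, 1), (10, 45, 1), (11, 50,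
  1), (13, 52, 1), (14, 54, 1), (17, 57, 1), (19, 58, 1), (21, 60, 1), (26, 61, 1), (28, 63, 1), (29, 65, 1),
  (35, 67, 1), (3, 68, 2), (72, 68, 1), (73, 68, 1), (76, 68, 1), (77, 68, 1), (37, 69, 1), (40, 70, 1), (48,
  71, 1), (3, 74, 1), (3, 76, 1), (3, 77, 1)], [(0, 22, 1), (1, 30, 1), (2, 33, 1), (3, 35, 1), (7, 42, 1), (9,
  43, 1), (10, 44, 1), (12, 50, 1), (13, 51, 1), (14, 53, 1), (18, 57, 1), (20, 58, 1), (21, 59, 1), (27, 61,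
  1), (28, 62, 1), (29, 64, 1), (4, 67, 2), (72, 67, 1), (73, 67, 1), (76, 67, 1), (36, 68, 1), (38, 69, 1),
  (41, 70, 1), (49, 71, 1), (4, 74, 1), (4, 77, 1)], [(0, 21, 1), (1, 28, 1), (2, 29, 1), (6, 37, 1), (7, 38,
  1), (8, 40, 1), (9, 41, 1), (11, 48, 1), (12, 49, 1), (15, 55, 1), (16, 56, 1), (22, 59, 1), (23, 60, 1), (30,
  62, 1), (31, 63, 1), (33, 64, 1), (34, 65, 1), (5, 66, 2), (72, 66, 1), (73, 66, 1), (74, 66, 1), (77, 66, 1),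
  (42, 69, 1), (43, 70, 1), (50, 71, 1), (5, 72, 1), (5, 74, 1), (5, 76, 1)], [(0, 20, 1), (1, 27, 1), (3, 29,
  1), (5, 34, 1), (7, 36, 1), (8, 39, 1), (10, 41, 1), (11, 47, 1), (13, 49, 1), (15, 54, 1), (17, 56, 1), (22,
  58, 1), (24, 60, 1), (30, 61, 1), (32, 63, 1), (35, 64, 1), (6, 65, 2), (72, 65, 1), (73, 65, 1), (74, 65, 1),
  (76, 65, 1), (77, 65, 1), (37, 66, 1), (42, 68, 1), (44, 70, 1), (51, 71, 1), (6, 72, 1), (6, 74, 1), (6, 75,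
  1), (6, 76, 1), (6, 77, 1)], [(0, 19, 1), (1, 26, 1), (4, 29, 1), (5, 33, 1), (6, 35, 1), (9, 39, 1), (10, 40,
  1), (12, 47, 1), (13, 48, 1), (15, 53, 1), (18, 56, 1), (23, 58, 1), (24, 59, 1), (31, 61, 1), (32, 62, 1),
  (7, 64, 2), (72, 64, 1), (73, 64, 1), (74, 64, 1), (76, 64, 1), (36, 65, 1), (38, 66, 1), (42, 67, 1), (45,
  70, 1), (52, 71, 1), (7, 72, 1), (7, 74, 1), (7, 75, 1), (7, 77, 1)], [(0, 18, 1), (2, 27, 1), (3, 28, 1), (5,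
  31, 1), (6, 32, 1), (9, 36, 1), (10, 38, 1), (11, 46, 1), (14, 49, 1), (15, 52, 1), (19, 56, 1), (22, 57, 1),
  (25, 60, 1), (33, 61, 1), (35, 62, 1), (8, 63, 2), (72, 63, 1), (73, 63, 1), (74, 63, 1), (75, 63, 1), (76,
  63, 1), (77, 63, 1), (39, 65, 1), (40, 66, 1), (43, 68, 1), (44, 69, 1), (53, 71, 1), (8, 72, 1), (8, 73, 1),
  (8, 75, 1), (8, 77, 1)], [(0, 17, 1), (2, 26, 1), (4, 28, 1), (5, 30, 1), (7, 32, 1), (8, 35, 1), (10, 37, 1),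
  (12, 46, 1), (14, 48, 1), (15, 51, 1), (20, 56, 1), (23, 57, 1), (25, 59, 1), (34, 61, 1), (9, 62, 2), (72,
  62, 1), (73, 62, 1), (74, 62, 1), (75, 62, 1), (76, 62, 1), (36, 63, 1), (39, 64, 1), (41, 66, 1), (43, 67,
  1), (45, 69, 1), (54, 71, 1), (9, 72, 1), (9, 73, 1), (9, 75, 1), (9, 76, 1), (9, 77, 1)], [(0, 16, 1), (3,
  26, 1), (4, 27, 1), (6, 30, 1), (7, 31, 1), (8, 33, 1), (9, 34, 1), (13, 46, 1), (14, 47, 1), (15, 50, 1),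
  (21, 56, 1), (24, 57, 1), (25, 58, 1), (10, 61, 2), (72, 61, 1), (73, 61, 1), (74, 61, 1), (75, 61, 1), (37,
  62, 1), (38, 63, 1), (40, 64, 1), (41, 65, 1), (44, 67, 1), (45, 68, 1), (55, 71, 1), (10, 72, 1), (10, 73,
  1), (10, 76, 1)], [(1, 18, 1), (2, 20, 1), (3, 21, 1), (5, 23, 1), (6, 24, 1), (8, 25, 1), (12, 36, 1), (13,
  38, 1), (14, 41, 1), (15, 45, 1), (26, 56, 1), (30, 57, 1), (33, 58, 1), (35, 59, 1), (11, 60, 2), (72, 60,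
  1), (74, 60, 1), (75, 60, 1), (76, 60, 1), (77, 60, 1), (46, 63, 1), (47, 65, 1), (48, 66, 1), (50, 68, 1),
  (51, 69, 1), (53, 70, 1), (11, 72, 1), (11, 73, 1), (11, 77, 1)]]

/-- Entries of root elements. -/
def tabs1 : List (List (Nat × Nat × Nat)) :=
  [[(1, 17, 1), (2, 19, 1), (4, 21, 1), (5, 22, 1), (7, 24, 1), (9, 25, 1), (11, 35, 1), (13, 37, 1), (14, 40,
  1), (15, 44, 1), (27, 56, 1), (31, 57, 1), (34, 58, 1), (12, 59, 2), (72, 59, 1), (74, 59, 1), (75, 59, 1),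
  (76, 59, 1), (36, 60, 1), (46, 62, 1), (47, 64, 1), (49, 66, 1), (50, 67, 1), (52, 69, 1), (54, 70, 1), (12,
  72, 1), (12, 73, 1), (12, 76, 1), (12, 77, 1)], [(1, 16, 1), (3, 19, 1), (4, 20, 1), (6, 22, 1), (7, 23, 1),
  (10, 25, 1), (11, 33, 1), (12, 34, 1), (14, 39, 1), (15, 43, 1), (28, 56, 1), (32, 57, 1), (13, 58, 2), (72,
  58, 1), (74, 58, 1), (75, 58, 1), (37, 59, 1), (38, 60, 1), (46, 61, 1), (48, 64, 1), (49, 65, 1), (51, 67,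
  1), (52, 68, 1), (55, 70, 1), (13, 72, 1), (13, 73, 1), (13, 75, 1), (13, 76, 1)], [(2, 16, 1), (3, 17, 1),
  (4, 18, 1), (8, 22, 1), (9, 23, 1), (10, 24, 1), (11, 30, 1), (12, 31, 1), (13, 32, 1), (15, 42, 1), (29, 56,
  1), (14, 57, 2), (72, 57, 1), (74, 57, 1), (39, 58, 1), (40, 59, 1), (41, 60, 1), (47, 61, 1), (48, 62, 1),
  (49, 63, 1), (53, 67, 1), (54, 68, 1), (55, 69, 1), (14, 72, 1), (14, 74, 1), (14, 75, 1)], [(5, 16, 1), (6,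
  17, 1), (7, 18, 1), (8, 19, 1), (9, 20, 1), (10, 21, 1), (11, 26, 1), (12, 27, 1), (13, 28, 1), (14, 29, 1),
  (15, 56, 2), (72, 56, 1), (42, 57, 1), (43, 58, 1), (44, 59, 1), (45, 60, 1), (50, 61, 1), (51, 62, 1), (52,
  63, 1), (53, 64, 1), (54, 65, 1), (55, 66, 1), (15, 74, 1)], [(0, 10, 1), (1, 13, 1), (2, 14, 1), (5, 15, 1),
  (17, 37, 1), (18, 38, 1), (19, 40, 1), (20, 41, 1), (22, 44, 1), (23, 45, 1), (26, 48, 1), (27, 49, 1), (30,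
  51, 1), (31, 52, 1), (33, 53, 1), (34, 54, 1), (16, 55, 2), (73, 55, 1), (74, 55, 1), (77, 55, 1), (56, 66,
  1), (57, 69, 1), (58, 70, 1), (61, 71, 1), (16, 72, 1), (16, 76, 1)], [(0, 9, 1), (1, 12, 1), (3, 14, 1), (6,
  15, 1), (16, 34, 1), (18, 36, 1), (19, 39, 1), (21, 41, 1), (22, 43, 1), (24, 45, 1), (26, 47, 1), (28, 49,
  1), (30, 50, 1), (32, 52, 1), (35, 53, 1), (17, 54, 2), (73, 54, 1), (74, 54, 1), (76, 54, 1), (77, 54, 1),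
  (37, 55, 1), (56, 65, 1), (57, 68, 1), (59, 70, 1), (62, 71, 1), (17, 72, 1), (17, 75, 1), (17, 76, 1), (17,
  77, 1)], [(0, 8, 1), (1, 11, 1), (4, 14, 1), (7, 15, 1), (16, 33, 1), (17, 35, 1), (20, 39, 1), (21, 40, 1),
  (23, 43, 1), (24, 44, 1), (27, 47, 1), (28, 48, 1), (31, 50, 1), (32, 51, 1), (18, 53, 2), (73, 53, 1), (74,
  53, 1), (76, 53, 1), (36, 54, 1), (38, 55, 1), (56, 64, 1), (57, 67, 1), (60, 70, 1), (63, 71, 1), (18, 72,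
  1), (18, 75, 1), (18, 77, 1)], [(0, 7, 1), (2, 12, 1), (3, 13, 1), (8, 15, 1), (16, 31, 1), (17, 32, 1), (20,
  36, 1), (21, 38, 1), (22, 42, 1), (25, 45, 1), (26, 46, 1), (29, 49, 1), (33, 50, 1), (35, 51, 1), (19, 52,
  2), (73, 52, 1), (74, 52, 1), (75, 52, 1), (76, 52, 1), (77, 52, 1), (39, 54, 1), (40, 55, 1), (56, 63, 1),
  (58, 68, 1), (59, 69, 1), (64, 71, 1), (19, 72, 1), (19, 73, 1), (19, 74, 1), (19, 75, 1), (19, 77, 1)], [(0,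
  6, 1), (2, 11, 1), (4, 13, 1), (9, 15, 1), (16, 30, 1), (18, 32, 1), (19, 35, 1), (21, 37, 1), (23, 42, 1),
  (25, 44, 1), (27, 46, 1), (29, 48, 1), (34, 50, 1), (20, 51, 2), (73, 51, 1), (74, 51, 1), (75, 51, 1), (76,
  51, 1), (36, 52, 1), (39, 53, 1), (41, 55, 1), (56, 62, 1), (58, 67, 1), (60, 69, 1), (65, 71, 1), (20, 72,
  1), (20, 73, 1), (20, 74, 1), (20, 75, 1), (20, 76, 1), (20, 77, 1)], [(0, 5, 1), (3, 11, 1), (4, 12, 1), (10,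
  15, 1), (17, 30, 1), (18, 31, 1), (19, 33, 1), (20, 34, 1), (24, 42, 1), (25, 43, 1), (28, 46, 1), (29, 47,
  1), (21, 50, 2), (73, 50, 1), (74, 50, 1), (75, 50, 1), (37, 51, 1), (38, 52, 1), (40, 53, 1), (41, 54, 1),
  (56, 61, 1), (59, 67, 1), (60, 68, 1), (66, 71, 1), (21, 72, 1), (21, 73, 1), (21, 74, 1), (21, 76, 1)], [(0,
  4, 1), (5, 12, 1), (6, 13, 1), (8, 14, 1), (16, 27, 1), (17, 28, 1), (19, 29, 1), (23, 36, 1), (24, 38, 1),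
  (25, 41, 1), (30, 46, 1), (33, 47, 1), (35, 48, 1), (22, 49, 2), (73, 49, 1), (75, 49, 1), (76, 49, 1), (77,
  49, 1), (42, 52, 1), (43, 54, 1), (44, 55, 1), (57, 63, 1), (58, 65, 1), (59, 66, 1), (67, 71, 1), (22, 73,
  1), (22, 74, 1), (22, 77, 1)], [(0, 3, 1), (5, 11, 1), (7, 13, 1), (9, 14, 1), (16, 26, 1), (18, 28, 1), (20,
  29, 1), (22, 35, 1), (24, 37, 1), (25, 40, 1), (31, 46, 1), (34, 47, 1), (23, 48, 2), (73, 48, 1), (75, 48,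
  1), (76, 48, 1), (36, 49, 1), (42, 51, 1), (43, 53, 1), (45, 55, 1), (57, 62, 1), (58, 64, 1), (60, 66, 1),
  (68, 71, 1), (23, 73, 1), (23, 74, 1), (23, 76, 1), (23, 77, 1)]]

/-- Entries of root elements. -/
def tabs2 : List (List (Nat × Nat × Nat)) :=
  [[(0, 2, 1), (6, 11, 1), (7, 12, 1), (10, 14, 1), (17, 26, 1), (18, 27, 1), (21, 29, 1), (22, 33, 1), (23, 34,
  1), (25, 39, 1), (32, 46, 1), (24, 47, 2), (73, 47, 1), (75, 47, 1), (37, 48, 1), (38, 49, 1), (42, 50, 1),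
  (44, 53, 1), (45, 54, 1), (57, 61, 1), (59, 64, 1), (60, 65, 1), (69, 71, 1), (24, 73, 1), (24, 74, 1), (24,
  75, 1), (24, 76, 1)], [(0, 1, 1), (8, 11, 1), (9, 12, 1), (10, 13, 1), (19, 26, 1), (20, 27, 1), (21, 28, 1),
  (22, 30, 1), (23, 31, 1), (24, 32, 1), (25, 46, 2), (73, 46, 1), (39, 47, 1), (40, 48, 1), (41, 49, 1), (43,
  50, 1), (44, 51, 1), (45, 52, 1), (58, 61, 1), (59, 62, 1), (60, 63, 1), (70, 71, 1), (25, 75, 1)], [(1, 7,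
  1), (2, 9, 1), (3, 10, 1), (11, 15, 1), (16, 23, 1), (17, 24, 1), (19, 25, 1), (27, 36, 1), (28, 38, 1), (29,
  41, 1), (30, 42, 1), (33, 43, 1), (35, 44, 1), (26, 45, 2), (74, 45, 1), (75, 45, 1), (76, 45, 1), (77, 45,
  1), (46, 52, 1), (47, 54, 1), (48, 55, 1), (56, 60, 1), (61, 68, 1), (62, 69, 1), (64, 70, 1), (26, 72, 1),
  (26, 73, 1), (26, 74, 1), (26, 77, 1)], [(1, 6, 1), (2, 8, 1), (4, 10, 1), (12, 15, 1), (16, 22, 1), (18, 24,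
  1), (20, 25, 1), (26, 35, 1), (28, 37, 1), (29, 40, 1), (31, 42, 1), (34, 43, 1), (27, 44, 2), (74, 44, 1),
  (75, 44, 1), (76, 44, 1), (36, 45, 1), (46, 51, 1), (47, 53, 1), (49, 55, 1), (56, 59, 1), (61, 67, 1), (63,
  69, 1), (65, 70, 1), (27, 72, 1), (27, 73, 1), (27, 74, 1), (27, 76, 1), (27, 77, 1)], [(1, 5, 1), (3, 8, 1),
  (4, 9, 1), (13, 15, 1), (17, 22, 1), (18, 23, 1), (21, 25, 1), (26, 33, 1), (27, 34, 1), (29, 39, 1), (32, 42,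
  1), (28, 43, 2), (74, 43, 1), (75, 43, 1), (37, 44, 1), (38, 45, 1), (46, 50, 1), (48, 53, 1), (49, 54, 1),
  (56, 58, 1), (62, 67, 1), (63, 68, 1), (66, 70, 1), (28, 72, 1), (28, 73, 1), (28, 74, 1), (28, 75, 1), (28,
  76, 1)], [(2, 5, 1), (3, 6, 1), (4, 7, 1), (14, 15, 1), (19, 22, 1), (20, 23, 1), (21, 24, 1), (26, 30, 1),
  (27, 31, 1), (28, 32, 1), (29, 42, 2), (74, 42, 1), (39, 43, 1), (40, 44, 1), (41, 45, 1), (47, 50, 1), (48,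
  51, 1), (49, 52, 1), (56, 57, 1), (64, 67, 1), (65, 68, 1), (66, 69, 1), (29, 72, 1), (29, 75, 1)], [(1, 4,
  1), (5, 9, 1), (6, 10, 1), (11, 14, 1), (16, 20, 1), (17, 21, 1), (22, 25, 1), (26, 29, 1), (31, 36, 1), (32,
  38, 1), (33, 39, 1), (35, 40, 1), (30, 41, 2), (75, 41, 1), (76, 41, 1), (77, 41, 1), (42, 45, 1), (46, 49,
  1), (50, 54, 1), (51, 55, 1), (57, 60, 1), (61, 65, 1), (62, 66, 1), (67, 70, 1), (30, 73, 1), (30, 74, 1),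
  (30, 75, 1), (30, 77, 1)], [(1, 3, 1), (5, 8, 1), (7, 10, 1), (12, 14, 1), (16, 19, 1), (18, 21, 1), (23, 25,
  1), (27, 29, 1), (30, 35, 1), (32, 37, 1), (34, 39, 1), (31, 40, 2), (75, 40, 1), (76, 40, 1), (36, 41, 1),
  (42, 44, 1), (46, 48, 1), (50, 53, 1), (52, 55, 1), (57, 59, 1), (61, 64, 1), (63, 66, 1), (68, 70, 1), (31,
  73, 1), (31, 74, 1), (31, 75, 1), (31, 76, 1), (31, 77, 1)], [(1, 2, 1), (6, 8, 1), (7, 9, 1), (13, 14, 1),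
  (17, 19, 1), (18, 20, 1), (24, 25, 1), (28, 29, 1), (30, 33, 1), (31, 34, 1), (32, 39, 2), (75, 39, 1), (37,
  40, 1), (38, 41, 1), (42, 43, 1), (46, 47, 1), (51, 53, 1), (52, 54, 1), (57, 58, 1), (62, 64, 1), (63, 65,
  1), (69, 70, 1), (32, 73, 1), (32, 74, 1), (32, 76, 1)], [(2, 4, 1), (5, 7, 1), (8, 10, 1), (11, 13, 1), (16,
  18, 1), (19, 21, 1), (22, 24, 1), (26, 28, 1), (30, 32, 1), (34, 36, 1), (35, 37, 1), (33, 38, 2), (76, 38,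
  1), (77, 38, 1), (39, 41, 1), (43, 45, 1), (47, 49, 1), (50, 52, 1), (53, 55, 1), (58, 60, 1), (61, 63, 1),
  (64, 66, 1), (67, 69, 1), (33, 75, 1), (33, 76, 1), (33, 77, 1)], [(2, 3, 1), (5, 6, 1), (9, 10, 1), (12, 13,
  1), (16, 17, 1), (20, 21, 1), (23, 24, 1), (27, 28, 1), (31, 32, 1), (33, 35, 1), (34, 37, 2), (76, 37, 1),
  (36, 38, 1), (39, 40, 1), (43, 44, 1), (47, 48, 1), (50, 51, 1), (54, 55, 1), (58, 59, 1), (61, 62, 1), (65,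
  66, 1), (68, 69, 1), (34, 75, 1), (34, 77, 1)], [(3, 4, 1), (6, 7, 1), (8, 9, 1), (11, 12, 1), (17, 18, 1),
  (19, 20, 1), (22, 23, 1), (26, 27, 1), (30, 31, 1), (33, 34, 1), (35, 36, 2), (77, 36, 1), (37, 38, 1), (40,
  41, 1), (44, 45, 1), (48, 49, 1), (51, 52, 1), (53, 54, 1), (59, 60, 1), (62, 63, 1), (64, 65, 1), (67, 68,
  1), (35, 76, 1)]]

/-- Entries of root elements. -/
def tabs3 : List (List (Nat × Nat × Nat)) :=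
  [[(4, 3, 1), (7, 6, 1), (9, 8, 1), (12, 11, 1), (18, 17, 1), (20, 19, 1), (23, 22, 1), (27, 26, 1), (31, 30,
  1), (34, 33, 1), (36, 35, 2), (77, 35, 1), (38, 37, 1), (41, 40, 1), (45, 44, 1), (49, 48, 1), (52, 51, 1),
  (54, 53, 1), (60, 59, 1), (63, 62, 1), (65, 64, 1), (68, 67, 1), (36, 76, 1)], [(3, 2, 1), (6, 5, 1), (10, 9,
  1), (13, 12, 1), (17, 16, 1), (21, 20, 1), (24, 23, 1), (28, 27, 1), (32, 31, 1), (35, 33, 1), (37, 34, 2),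
  (76, 34, 1), (38, 36, 1), (40, 39, 1), (44, 43, 1), (48, 47, 1), (51, 50, 1), (55, 54, 1), (59, 58, 1), (62,
  61, 1), (66, 65, 1), (69, 68, 1), (37, 75, 1), (37, 77, 1)], [(4, 2, 1), (7, 5, 1), (10, 8, 1), (13, 11, 1),
  (18, 16, 1), (21, 19, 1), (24, 22, 1), (28, 26, 1), (32, 30, 1), (38, 33, 2), (76, 33, 1), (77, 33, 1), (36,
  34, 1), (37, 35, 1), (41, 39, 1), (45, 43, 1), (49, 47, 1), (52, 50, 1), (55, 53, 1), (60, 58, 1), (63, 61,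
  1), (66, 64, 1), (69, 67, 1), (38, 75, 1), (38, 76, 1), (38, 77, 1)], [(2, 1, 1), (8, 6, 1), (9, 7, 1), (14,
  13, 1), (19, 17, 1), (20, 18, 1), (25, 24, 1), (29, 28, 1), (33, 30, 1), (34, 31, 1), (39, 32, 2), (75, 32,
  1), (40, 37, 1), (41, 38, 1), (43, 42, 1), (47, 46, 1), (53, 51, 1), (54, 52, 1), (58, 57, 1), (64, 62, 1),
  (65, 63, 1), (70, 69, 1), (39, 73, 1), (39, 74, 1), (39, 76, 1)], [(3, 1, 1), (8, 5, 1), (10, 7, 1), (14, 12,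
  1), (19, 16, 1), (21, 18, 1), (25, 23, 1), (29, 27, 1), (35, 30, 1), (40, 31, 2), (75, 31, 1), (76, 31, 1),
  (37, 32, 1), (39, 34, 1), (41, 36, 1), (44, 42, 1), (48, 46, 1), (53, 50, 1), (55, 52, 1), (59, 57, 1), (64,
  61, 1), (66, 63, 1), (70, 68, 1), (40, 73, 1), (40, 74, 1), (40, 75, 1), (40, 76, 1), (40, 77, 1)], [(4, 1,
  1), (9, 5, 1), (10, 6, 1), (14, 11, 1), (20, 16, 1), (21, 17, 1), (25, 22, 1), (29, 26, 1), (41, 30, 2), (75,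
  30, 1), (76, 30, 1), (77, 30, 1), (36, 31, 1), (38, 32, 1), (39, 33, 1), (40, 35, 1), (45, 42, 1), (49, 46,
  1), (54, 50, 1), (55, 51, 1), (60, 57, 1), (65, 61, 1), (66, 62, 1), (70, 67, 1), (41, 73, 1), (41, 74, 1),
  (41, 75, 1), (41, 77, 1)], [(5, 2, 1), (6, 3, 1), (7, 4, 1), (15, 14, 1), (22, 19, 1), (23, 20, 1), (24, 21,
  1), (30, 26, 1), (31, 27, 1), (32, 28, 1), (42, 29, 2), (74, 29, 1), (43, 39, 1), (44, 40, 1), (45, 41, 1),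
  (50, 47, 1), (51, 48, 1), (52, 49, 1), (57, 56, 1), (67, 64, 1), (68, 65, 1), (69, 66, 1), (42, 72, 1), (42,
  75, 1)], [(5, 1, 1), (8, 3, 1), (9, 4, 1), (15, 13, 1), (22, 17, 1), (23, 18, 1), (25, 21, 1), (33, 26, 1),
  (34, 27, 1), (43, 28, 2), (74, 28, 1), (75, 28, 1), (39, 29, 1), (42, 32, 1), (44, 37, 1), (45, 38, 1), (50,
  46, 1), (53, 48, 1), (54, 49, 1), (58, 56, 1), (67, 62, 1), (68, 63, 1), (70, 66, 1), (43, 72, 1), (43, 73,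
  1), (43, 74, 1), (43, 75, 1), (43, 76, 1)], [(6, 1, 1), (8, 2, 1), (10, 4, 1), (15, 12, 1), (22, 16, 1), (24,
  18, 1), (25, 20, 1), (35, 26, 1), (44, 27, 2), (74, 27, 1), (75, 27, 1), (76, 27, 1), (37, 28, 1), (40, 29,
  1), (42, 31, 1), (43, 34, 1), (45, 36, 1), (51, 46, 1), (53, 47, 1), (55, 49, 1), (59, 56, 1), (67, 61, 1),
  (69, 63, 1), (70, 65, 1), (44, 72, 1), (44, 73, 1), (44, 74, 1), (44, 76, 1), (44, 77, 1)], [(7, 1, 1), (9, 2,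
  1), (10, 3, 1), (15, 11, 1), (23, 16, 1), (24, 17, 1), (25, 19, 1), (45, 26, 2), (74, 26, 1), (75, 26, 1),
  (76, 26, 1), (77, 26, 1), (36, 27, 1), (38, 28, 1), (41, 29, 1), (42, 30, 1), (43, 33, 1), (44, 35, 1), (52,
  46, 1), (54, 47, 1), (55, 48, 1), (60, 56, 1), (68, 61, 1), (69, 62, 1), (70, 64, 1), (45, 72, 1), (45, 73,
  1), (45, 74, 1), (45, 77, 1)], [(1, 0, 1), (11, 8, 1), (12, 9, 1), (13, 10, 1), (26, 19, 1), (27, 20, 1), (28,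
  21, 1), (30, 22, 1), (31, 23, 1), (32, 24, 1), (46, 25, 2), (73, 25, 1), (47, 39, 1), (48, 40, 1), (49, 41,
  1), (50, 43, 1), (51, 44, 1), (52, 45, 1), (61, 58, 1), (62, 59, 1), (63, 60, 1), (71, 70, 1), (46, 75, 1)],
  [(2, 0, 1), (11, 6, 1), (12, 7, 1), (14, 10, 1), (26, 17, 1), (27, 18, 1), (29, 21, 1), (33, 22, 1), (34, 23,
  1), (47, 24, 2), (73, 24, 1), (75, 24, 1), (39, 25, 1), (46, 32, 1), (48, 37, 1), (49, 38, 1), (50, 42, 1),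
  (53, 44, 1), (54, 45, 1), (61, 57, 1), (64, 59, 1), (65, 60, 1), (71, 69, 1), (47, 73, 1), (47, 74, 1), (47,
  75, 1), (47, 76, 1)]]

/-- Entries of root elements. -/
def tabs4 : List (List (Nat × Nat × Nat)) :=
  [[(3, 0, 1), (11, 5, 1), (13, 7, 1), (14, 9, 1), (26, 16, 1), (28, 18, 1), (29, 20, 1), (35, 22, 1), (48, 23,
  2), (73, 23, 1), (75, 23, 1), (76, 23, 1), (37, 24, 1), (40, 25, 1), (46, 31, 1), (47, 34, 1), (49, 36, 1),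
  (51, 42, 1), (53, 43, 1), (55, 45, 1), (62, 57, 1), (64, 58, 1), (66, 60, 1), (71, 68, 1), (48, 73, 1), (48,
  74, 1), (48, 76, 1), (48, 77, 1)], [(4, 0, 1), (12, 5, 1), (13, 6, 1), (14, 8, 1), (27, 16, 1), (28, 17, 1),
  (29, 19, 1), (49, 22, 2), (73, 22, 1), (75, 22, 1), (76, 22, 1), (77, 22, 1), (36, 23, 1), (38, 24, 1), (41,
  25, 1), (46, 30, 1), (47, 33, 1), (48, 35, 1), (52, 42, 1), (54, 43, 1), (55, 44, 1), (63, 57, 1), (65, 58,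
  1), (66, 59, 1), (71, 67, 1), (49, 73, 1), (49, 74, 1), (49, 77, 1)], [(5, 0, 1), (11, 3, 1), (12, 4, 1), (15,
  10, 1), (30, 17, 1), (31, 18, 1), (33, 19, 1), (34, 20, 1), (50, 21, 2), (73, 21, 1), (74, 21, 1), (75, 21,
  1), (42, 24, 1), (43, 25, 1), (46, 28, 1), (47, 29, 1), (51, 37, 1), (52, 38, 1), (53, 40, 1), (54, 41, 1),
  (61, 56, 1), (67, 59, 1), (68, 60, 1), (71, 66, 1), (50, 72, 1), (50, 73, 1), (50, 74, 1), (50, 76, 1)], [(6,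
  0, 1), (11, 2, 1), (13, 4, 1), (15, 9, 1), (30, 16, 1), (32, 18, 1), (35, 19, 1), (51, 20, 2), (73, 20, 1),
  (74, 20, 1), (75, 20, 1), (76, 20, 1), (37, 21, 1), (42, 23, 1), (44, 25, 1), (46, 27, 1), (48, 29, 1), (50,
  34, 1), (52, 36, 1), (53, 39, 1), (55, 41, 1), (62, 56, 1), (67, 58, 1), (69, 60, 1), (71, 65, 1), (51, 72,
  1), (51, 73, 1), (51, 74, 1), (51, 75, 1), (51, 76, 1), (51, 77, 1)], [(7, 0, 1), (12, 2, 1), (13, 3, 1), (15,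
  8, 1), (31, 16, 1), (32, 17, 1), (52, 19, 2), (73, 19, 1), (74, 19, 1), (75, 19, 1), (76, 19, 1), (77, 19, 1),
  (36, 20, 1), (38, 21, 1), (42, 22, 1), (45, 25, 1), (46, 26, 1), (49, 29, 1), (50, 33, 1), (51, 35, 1), (54,
  39, 1), (55, 40, 1), (63, 56, 1), (68, 58, 1), (69, 59, 1), (71, 64, 1), (52, 72, 1), (52, 73, 1), (52, 74,
  1), (52, 75, 1), (52, 77, 1)], [(8, 0, 1), (11, 1, 1), (14, 4, 1), (15, 7, 1), (33, 16, 1), (35, 17, 1), (53,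
  18, 2), (73, 18, 1), (74, 18, 1), (76, 18, 1), (39, 20, 1), (40, 21, 1), (43, 23, 1), (44, 24, 1), (47, 27,
  1), (48, 28, 1), (50, 31, 1), (51, 32, 1), (54, 36, 1), (55, 38, 1), (64, 56, 1), (67, 57, 1), (70, 60, 1),
  (71, 63, 1), (53, 72, 1), (53, 75, 1), (53, 77, 1)], [(9, 0, 1), (12, 1, 1), (14, 3, 1), (15, 6, 1), (34, 16,
  1), (54, 17, 2), (73, 17, 1), (74, 17, 1), (76, 17, 1), (77, 17, 1), (36, 18, 1), (39, 19, 1), (41, 21, 1),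
  (43, 22, 1), (45, 24, 1), (47, 26, 1), (49, 28, 1), (50, 30, 1), (52, 32, 1), (53, 35, 1), (55, 37, 1), (65,
  56, 1), (68, 57, 1), (70, 59, 1), (71, 62, 1), (54, 72, 1), (54, 75, 1), (54, 76, 1), (54, 77, 1)], [(10, 0,
  1), (13, 1, 1), (14, 2, 1), (15, 5, 1), (55, 16, 2), (73, 16, 1), (74, 16, 1), (77, 16, 1), (37, 17, 1), (38,
  18, 1), (40, 19, 1), (41, 20, 1), (44, 22, 1), (45, 23, 1), (48, 26, 1), (49, 27, 1), (51, 30, 1), (52, 31,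
  1), (53, 33, 1), (54, 34, 1), (66, 56, 1), (69, 57, 1), (70, 58, 1), (71, 61, 1), (55, 72, 1), (55, 76, 1)],
  [(16, 5, 1), (17, 6, 1), (18, 7, 1), (19, 8, 1), (20, 9, 1), (21, 10, 1), (26, 11, 1), (27, 12, 1), (28, 13,
  1), (29, 14, 1), (56, 15, 2), (72, 15, 1), (57, 42, 1), (58, 43, 1), (59, 44, 1), (60, 45, 1), (61, 50, 1),
  (62, 51, 1), (63, 52, 1), (64, 53, 1), (65, 54, 1), (66, 55, 1), (56, 74, 1)], [(16, 2, 1), (17, 3, 1), (18,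
  4, 1), (22, 8, 1), (23, 9, 1), (24, 10, 1), (30, 11, 1), (31, 12, 1), (32, 13, 1), (57, 14, 2), (72, 14, 1),
  (74, 14, 1), (42, 15, 1), (56, 29, 1), (58, 39, 1), (59, 40, 1), (60, 41, 1), (61, 47, 1), (62, 48, 1), (63,
  49, 1), (67, 53, 1), (68, 54, 1), (69, 55, 1), (57, 72, 1), (57, 74, 1), (57, 75, 1)], [(16, 1, 1), (19, 3,
  1), (20, 4, 1), (22, 6, 1), (23, 7, 1), (25, 10, 1), (33, 11, 1), (34, 12, 1), (58, 13, 2), (72, 13, 1), (74,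
  13, 1), (75, 13, 1), (39, 14, 1), (43, 15, 1), (56, 28, 1), (57, 32, 1), (59, 37, 1), (60, 38, 1), (61, 46,
  1), (64, 48, 1), (65, 49, 1), (67, 51, 1), (68, 52, 1), (70, 55, 1), (58, 72, 1), (58, 73, 1), (58, 75, 1),
  (58, 76, 1)], [(17, 1, 1), (19, 2, 1), (21, 4, 1), (22, 5, 1), (24, 7, 1), (25, 9, 1), (35, 11, 1), (59, 12,
  2), (72, 12, 1), (74, 12, 1), (75, 12, 1), (76, 12, 1), (37, 13, 1), (40, 14, 1), (44, 15, 1), (56, 27, 1),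
  (57, 31, 1), (58, 34, 1), (60, 36, 1), (62, 46, 1), (64, 47, 1), (66, 49, 1), (67, 50, 1), (69, 52, 1), (70,
  54, 1), (59, 72, 1), (59, 73, 1), (59, 76, 1), (59, 77, 1)]]

/-- Entries of root elements. -/
def tabs5 : List (List (Nat × Nat × Nat)) :=
  [[(18, 1, 1), (20, 2, 1), (21, 3, 1), (23, 5, 1), (24, 6, 1), (25, 8, 1), (60, 11, 2), (72, 11, 1), (74, 11,
  1), (75, 11, 1), (76, 11, 1), (77, 11, 1), (36, 12, 1), (38, 13, 1), (41, 14, 1), (45, 15, 1), (56, 26, 1),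
  (57, 30, 1), (58, 33, 1), (59, 35, 1), (63, 46, 1), (65, 47, 1), (66, 48, 1), (68, 50, 1), (69, 51, 1), (70,
  53, 1), (60, 72, 1), (60, 73, 1), (60, 77, 1)], [(16, 0, 1), (26, 3, 1), (27, 4, 1), (30, 6, 1), (31, 7, 1),
  (33, 8, 1), (34, 9, 1), (61, 10, 2), (72, 10, 1), (73, 10, 1), (74, 10, 1), (75, 10, 1), (46, 13, 1), (47, 14,
  1), (50, 15, 1), (56, 21, 1), (57, 24, 1), (58, 25, 1), (62, 37, 1), (63, 38, 1), (64, 40, 1), (65, 41, 1),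
  (67, 44, 1), (68, 45, 1), (71, 55, 1), (61, 72, 1), (61, 73, 1), (61, 76, 1)], [(17, 0, 1), (26, 2, 1), (28,
  4, 1), (30, 5, 1), (32, 7, 1), (35, 8, 1), (62, 9, 2), (72, 9, 1), (73, 9, 1), (74, 9, 1), (75, 9, 1), (76, 9,
  1), (37, 10, 1), (46, 12, 1), (48, 14, 1), (51, 15, 1), (56, 20, 1), (57, 23, 1), (59, 25, 1), (61, 34, 1),
  (63, 36, 1), (64, 39, 1), (66, 41, 1), (67, 43, 1), (69, 45, 1), (71, 54, 1), (62, 72, 1), (62, 73, 1), (62,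
  75, 1), (62, 76, 1), (62, 77, 1)], [(18, 0, 1), (27, 2, 1), (28, 3, 1), (31, 5, 1), (32, 6, 1), (63, 8, 2),
  (72, 8, 1), (73, 8, 1), (74, 8, 1), (75, 8, 1), (76, 8, 1), (77, 8, 1), (36, 9, 1), (38, 10, 1), (46, 11, 1),
  (49, 14, 1), (52, 15, 1), (56, 19, 1), (57, 22, 1), (60, 25, 1), (61, 33, 1), (62, 35, 1), (65, 39, 1), (66,
  40, 1), (68, 43, 1), (69, 44, 1), (71, 53, 1), (63, 72, 1), (63, 73, 1), (63, 75, 1), (63, 77, 1)], [(19, 0,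
  1), (26, 1, 1), (29, 4, 1), (33, 5, 1), (35, 6, 1), (64, 7, 2), (72, 7, 1), (73, 7, 1), (74, 7, 1), (76, 7,
  1), (39, 9, 1), (40, 10, 1), (47, 12, 1), (48, 13, 1), (53, 15, 1), (56, 18, 1), (58, 23, 1), (59, 24, 1),
  (61, 31, 1), (62, 32, 1), (65, 36, 1), (66, 38, 1), (67, 42, 1), (70, 45, 1), (71, 52, 1), (64, 72, 1), (64,
  74, 1), (64, 75, 1), (64, 77, 1)], [(20, 0, 1), (27, 1, 1), (29, 3, 1), (34, 5, 1), (65, 6, 2), (72, 6, 1),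
  (73, 6, 1), (74, 6, 1), (76, 6, 1), (77, 6, 1), (36, 7, 1), (39, 8, 1), (41, 10, 1), (47, 11, 1), (49, 13, 1),
  (54, 15, 1), (56, 17, 1), (58, 22, 1), (60, 24, 1), (61, 30, 1), (63, 32, 1), (64, 35, 1), (66, 37, 1), (68,
  42, 1), (70, 44, 1), (71, 51, 1), (65, 72, 1), (65, 74, 1), (65, 75, 1), (65, 76, 1), (65, 77, 1)], [(21, 0,
  1), (28, 1, 1), (29, 2, 1), (66, 5, 2), (72, 5, 1), (73, 5, 1), (74, 5, 1), (77, 5, 1), (37, 6, 1), (38, 7,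
  1), (40, 8, 1), (41, 9, 1), (48, 11, 1), (49, 12, 1), (55, 15, 1), (56, 16, 1), (59, 22, 1), (60, 23, 1), (62,
  30, 1), (63, 31, 1), (64, 33, 1), (65, 34, 1), (69, 42, 1), (70, 43, 1), (71, 50, 1), (66, 72, 1), (66, 74,
  1), (66, 76, 1)], [(22, 0, 1), (30, 1, 1), (33, 2, 1), (35, 3, 1), (67, 4, 2), (72, 4, 1), (73, 4, 1), (76, 4,
  1), (42, 7, 1), (43, 9, 1), (44, 10, 1), (50, 12, 1), (51, 13, 1), (53, 14, 1), (57, 18, 1), (58, 20, 1), (59,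
  21, 1), (61, 27, 1), (62, 28, 1), (64, 29, 1), (68, 36, 1), (69, 38, 1), (70, 41, 1), (71, 49, 1), (67, 74,
  1), (67, 77, 1)], [(23, 0, 1), (31, 1, 1), (34, 2, 1), (68, 3, 2), (72, 3, 1), (73, 3, 1), (76, 3, 1), (77, 3,
  1), (36, 4, 1), (42, 6, 1), (43, 8, 1), (45, 10, 1), (50, 11, 1), (52, 13, 1), (54, 14, 1), (57, 17, 1), (58,
  19, 1), (60, 21, 1), (61, 26, 1), (63, 28, 1), (65, 29, 1), (67, 35, 1), (69, 37, 1), (70, 40, 1), (71, 48,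
  1), (68, 74, 1), (68, 76, 1), (68, 77, 1)], [(24, 0, 1), (32, 1, 1), (69, 2, 2), (72, 2, 1), (73, 2, 1), (77,
  2, 1), (37, 3, 1), (38, 4, 1), (42, 5, 1), (44, 8, 1), (45, 9, 1), (51, 11, 1), (52, 12, 1), (55, 14, 1), (57,
  16, 1), (59, 19, 1), (60, 20, 1), (62, 26, 1), (63, 27, 1), (66, 29, 1), (67, 33, 1), (68, 34, 1), (70, 39,
  1), (71, 47, 1), (69, 74, 1), (69, 75, 1), (69, 76, 1)], [(25, 0, 1), (70, 1, 2), (72, 1, 1), (73, 1, 1), (75,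
  1, 1), (77, 1, 1), (39, 2, 1), (40, 3, 1), (41, 4, 1), (43, 5, 1), (44, 6, 1), (45, 7, 1), (53, 11, 1), (54,
  12, 1), (55, 13, 1), (58, 16, 1), (59, 17, 1), (60, 18, 1), (64, 26, 1), (65, 27, 1), (66, 28, 1), (67, 30,
  1), (68, 31, 1), (69, 32, 1), (71, 46, 1), (70, 73, 1), (70, 75, 1)], [(71, 0, 2), (72, 0, 1), (75, 0, 1),
  (77, 0, 1), (46, 1, 1), (47, 2, 1), (48, 3, 1), (49, 4, 1), (50, 5, 1), (51, 6, 1), (52, 7, 1), (53, 8, 1),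
  (54, 9, 1), (55, 10, 1), (61, 16, 1), (62, 17, 1), (63, 18, 1), (64, 19, 1), (65, 20, 1), (66, 21, 1), (67,
  22, 1), (68, 23, 1), (69, 24, 1), (70, 25, 1), (71, 73, 1)]]

/-- Entries of the root elements. -/
def tabs : List (List (Nat × Nat × Nat)) := tabs0 ++ tabs1 ++ tabs2 ++ tabs3 ++ tabs4 ++ tabs5

/-- The fundamental roots. -/
def simpL : List Nat :=
  [56, 46, 42, 39, 37, 36]

/-- The negatives of the roots. -/
def negL : List Nat :=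
  [71, 70, 69, 68, 67, 66, 65, 64, 63, 62, 61, 60, 59, 58, 57, 56, 55, 54, 53, 52, 51, 50, 49, 48, 47, 46, 45,
  44, 43, 42, 41, 40, 39, 38, 37, 36, 35, 34, 33, 32, 31, 30, 29, 28, 27, 26, 25, 24, 23, 22, 21, 20, 19, 18,
  17, 16, 15, 14, 13, 12, 11, 10, 9, 8, 7, 6, 5, 4, 3, 2, 1, 0]

/-- The height of a coordinate, shifted by twelve. -/
def htL : List Nat :=
  [1, 2, 3, 4, 5, 4, 5, 6, 6, 7, 8, 7, 8, 9, 10, 11, 5, 6, 7, 7, 8, 9, 8, 9, 10, 11, 8, 9, 10, 11, 9, 10, 11,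
  10, 11, 11, 13, 13, 14, 13, 14, 15, 13, 14, 15, 16, 13, 14, 15, 16, 15, 16, 17, 17, 18, 19, 13, 14, 15, 16,
  17, 16, 17, 18, 18, 19, 20, 19, 20, 21, 22, 23, 12, 12, 12, 12, 12, 12]

/-- The representatives of the fundamental reflections. -/
def nLetL : List (List (Nat × Nat)) :=
  [[(56, 1), (15, 1), (56, 1)], [(42, 1), (29, 1), (42, 1)], [(39, 2), (32, 2), (39, 2)], [(46, 2), (25, 2),
  (46, 2)]]

/-- The element of order five. -/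
def xWord : List (Nat × Nat) :=
  [(56, 2), (15, 1)]

/-- The outer reflection fixing the short root. -/
def n0Word : List Nat :=
  [1, 2, 1, 0, 1, 2, 1]

/-- Generators of the long root subsystem subgroup. -/
def gALet : List (Nat × Nat) :=
  [(46, 2), (39, 2), (69, 2), (25, 2), (32, 2), (2, 2)]

/-- Carmichael generators as words. -/
def altWords : List (List Nat) :=
  [[0, 2, 3, 5], [0, 2, 1, 0, 2, 1], [0, 4, 3, 0, 5, 4], [0, 2], [0, 3, 0, 5], [0, 1, 0, 2, 1, 0]]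

/-- Generators as words in Carmichael generators. -/
def altBack : List (List Nat) :=
  [[2, 1, 3, 0, 2, 1, 0, 4, 3, 2, 1, 5, 4, 3, 2], [0, 1, 3, 0, 5], [2, 1, 0, 3, 2, 1, 4, 0, 3, 2, 1, 5, 4, 3,
  2], [0, 2, 1, 3, 0, 2, 1, 0, 4, 3, 2, 1, 5, 0, 4, 3, 2], [1, 2, 1, 3, 2, 1, 4, 3, 2, 1, 5, 4, 3, 2, 1], [0, 2,
  1, 0, 3, 2, 1, 4, 0, 3, 2, 1, 5, 0, 4, 3, 2]]

/-- The other positive root elements as words. -/
def extraWords : List (List Nat) :=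
  [[0, 1, 0, 1], [1, 2, 1, 2], [0, 1, 2, 1, 0, 1, 2, 1]]

/-- Generators of the stabiliser of the short root. -/
def wGens : List (List Nat) :=
  [[3], [2], [1, 2, 3, 0, 1, 2, 1, 0, 3, 2, 1], [1, 2, 1, 0, 1, 2, 1]]

/-- The stabiliser, as words in its generators. -/
def stabWords : List (List Nat) :=
  [[], [0], [1], [2], [1, 0], [2, 0], [0, 1], [2, 1], [1, 2], [0, 1, 0], [2, 1, 0], [1, 2, 0], [2, 0, 1], [1, 2,
  1], [0, 1, 2], [2, 0, 1, 0], [1, 2, 1, 0], [0, 1, 2, 0], [1, 2, 0, 1], [0, 1, 2, 1], [1, 2, 0, 1, 0], [0, 1,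
  2, 1, 0], [0, 1, 2, 0, 1], [0, 1, 2, 0, 1, 0], [3], [0, 3], [1, 3], [2, 3], [1, 0, 3], [2, 0, 3], [0, 1, 3],
  [2, 1, 3], [1, 2, 3], [0, 1, 0, 3], [2, 1, 0, 3], [1, 2, 0, 3], [2, 0, 1, 3], [1, 2, 1, 3], [0, 1, 2, 3], [2,
  0, 1, 0, 3], [1, 2, 1, 0, 3], [0, 1, 2, 0, 3], [1, 2, 0, 1, 3], [0, 1, 2, 1, 3], [1, 2, 0, 1, 0, 3], [0, 1, 2,
  1, 0, 3], [0, 1, 2, 0, 1, 3], [0, 1, 2, 0, 1, 0, 3]]

/-- Left multiplication in the stabiliser. -/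
def stabMul : List (List Nat) :=
  [[1, 2, 3, 24], [0, 4, 5, 27], [6, 0, 7, 26], [5, 8, 0, 25], [9, 1, 10, 32], [3, 11, 1, 29], [2, 9, 12, 31],
  [12, 13, 2, 30], [14, 3, 13, 28], [4, 6, 15, 37], [15, 16, 4, 38], [17, 5, 16, 35], [7, 18, 6, 36], [19, 7, 8,
  33], [8, 17, 19, 34], [10, 20, 9, 43], [21, 10, 11, 41], [11, 14, 21, 40], [22, 12, 20, 42], [13, 22, 14, 39],
  [23, 15, 18, 46], [16, 23, 17, 45], [18, 19, 23, 44], [20, 21, 22, 47], [25, 26, 27, 0], [24, 28, 29, 3], [30,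
  24, 31, 2], [29, 32, 24, 1], [33, 25, 34, 8], [27, 35, 25, 5], [26, 33, 36, 7], [36, 37, 26, 6], [38, 27, 37,
  4], [28, 30, 39, 13], [39, 40, 28, 14], [41, 29, 40, 11], [31, 42, 30, 12], [43, 31, 32, 9], [32, 41, 43, 10],
  [34, 44, 33, 19], [45, 34, 35, 17], [35, 38, 45, 16], [46, 36, 44, 18], [37, 46, 38, 15], [47, 39, 42, 22],
  [40, 47, 41, 21], [42, 43, 47, 20], [44, 45, 46, 23]]

/-- Coset representatives. -/
def cosetWords : List (List Nat) :=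
  [[], [0], [1], [1, 0], [0, 1], [2, 1], [0, 1, 0], [2, 1, 0], [2, 0, 1], [1, 2, 1], [3, 2, 1], [2, 0, 1, 0],
  [1, 2, 1, 0], [3, 2, 1, 0], [3, 2, 0, 1], [3, 1, 2, 1], [3, 2, 0, 1, 0], [3, 1, 2, 1, 0], [2, 3, 1, 2, 1], [2,
  3, 1, 2, 1, 0], [1, 2, 3, 1, 2, 1], [1, 2, 3, 1, 2, 1, 0], [0, 1, 2, 3, 1, 2, 1], [0, 1, 2, 3, 1, 2, 1, 0]]

/-- Left multiplication of representatives. -/
def schreier : List (List (Nat × Nat)) :=
  [[(1, 0), (2, 0), (0, 2), (0, 1)], [(0, 0), (3, 0), (1, 2), (1, 1)], [(4, 0), (0, 0), (5, 0), (2, 1)], [(6,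
  0), (1, 0), (7, 0), (3, 1)], [(2, 0), (6, 0), (8, 0), (4, 1)], [(8, 0), (9, 0), (2, 0), (10, 0)], [(3, 0), (4,
  0), (11, 0), (6, 1)], [(11, 0), (12, 0), (3, 0), (13, 0)], [(5, 0), (8, 24), (4, 0), (14, 0)], [(9, 24), (5,
  0), (9, 2), (15, 0)], [(14, 0), (15, 0), (10, 1), (5, 0)], [(7, 0), (11, 24), (6, 0), (16, 0)], [(12, 24), (7,
  0), (12, 2), (17, 0)], [(16, 0), (17, 0), (13, 1), (7, 0)], [(10, 0), (14, 24), (14, 1), (8, 0)], [(15, 24),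
  (10, 0), (18, 0), (9, 0)], [(13, 0), (16, 24), (16, 1), (11, 0)], [(17, 24), (13, 0), (19, 0), (12, 0)], [(18,
  24), (20, 0), (15, 0), (18, 2)], [(19, 24), (21, 0), (17, 0), (19, 2)], [(22, 0), (18, 0), (20, 1), (20, 2)],
  [(23, 0), (19, 0), (21, 1), (21, 2)], [(20, 0), (22, 24), (22, 1), (22, 2)], [(21, 0), (23, 24), (23, 1), (23,
  2)]]

/-- A Sylow generator. -/
def aWord : List (Nat × Nat) :=
  [(69, 2), (2, 2), (39, 2), (32, 2), (46, 2), (25, 2)]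

/-- The other Sylow generator. -/
def bWord : List (Nat × Nat) :=
  [(39, 2), (44, 2), (27, 2), (25, 2), (32, 2), (25, 2), (11, 2), (60, 2), (46, 2), (25, 2), (46, 2), (39, 2),
  (32, 2), (44, 2)]

/-- Conjugating words. -/
def conjWords : List (Nat × Nat × List (Nat × Nat)) :=
  [(0, 1, [(60, 2), (11, 2), (25, 2), (46, 2), (42, 1), (29, 1), (42, 1), (11, 2), (27, 2), (60, 2), (44, 2),
  (46, 2), (39, 2), (46, 2)]), (0, 2, [(39, 2), (46, 2), (60, 2), (11, 2), (42, 1), (29, 1), (42, 1), (46, 2),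
  (25, 2), (32, 2), (44, 2), (46, 2), (39, 2)]), (0, 3, [(39, 2), (60, 2), (46, 2), (27, 2), (44, 2), (42, 1),
  (29, 1), (42, 1), (25, 2), (46, 2), (44, 2), (27, 2), (32, 2), (25, 2), (39, 2)]), (0, 4, [(44, 2), (46, 2),
  (44, 2), (46, 2), (42, 1), (29, 1), (42, 1), (44, 2), (27, 2), (60, 2), (46, 2), (25, 2), (60, 2), (39, 2)]),
  (1, 0, []), (1, 1, [(46, 2), (39, 2), (11, 2), (60, 2), (25, 2), (56, 1), (15, 1), (56, 1), (42, 1), (29, 1),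
  (42, 1), (11, 2), (27, 2), (60, 2), (46, 2), (39, 2), (32, 2), (60, 2)]), (1, 2, [(39, 2), (46, 2), (44, 2),
  (25, 2), (42, 1), (29, 1), (42, 1), (11, 2), (25, 2), (32, 2), (60, 2), (46, 2), (60, 2)]), (1, 3, [(46, 2),
  (39, 2), (25, 2), (11, 2), (60, 2), (56, 1), (15, 1), (56, 1), (42, 1), (29, 1), (42, 1), (46, 2), (60, 2),
  (46, 2), (44, 2), (27, 2), (25, 2), (11, 2), (32, 2)]), (1, 4, [(44, 2), (60, 2), (46, 2), (27, 2), (39, 2),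
  (46, 2), (60, 2), (46, 2), (44, 2), (39, 2)]), (2, 0, [(39, 2), (27, 2), (25, 2), (11, 2), (25, 2), (27, 2),
  (25, 2), (11, 2), (32, 2), (46, 2)]), (2, 1, [(60, 2), (46, 2), (39, 2), (44, 2), (32, 2), (56, 1), (15, 1),
  (56, 1), (42, 1), (29, 1), (42, 1), (25, 2), (11, 2), (32, 2), (25, 2), (11, 2), (27, 2), (32, 2), (39, 2)]),
  (2, 2, [(60, 2), (46, 2), (44, 2), (25, 2), (56, 1), (15, 1), (56, 1), (42, 1), (29, 1), (42, 1), (27, 2),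
  (32, 2), (46, 2), (44, 2), (46, 2), (25, 2), (11, 2), (39, 2)]), (2, 3, [(39, 2), (46, 2), (60, 2), (32, 2),
  (27, 2), (39, 2), (46, 2), (25, 2), (44, 2), (27, 2), (46, 2)]), (2, 4, [(46, 2), (39, 2), (46, 2), (44, 2),
  (25, 2), (42, 1), (29, 1), (42, 1), (11, 2), (32, 2), (46, 2), (25, 2), (11, 2), (27, 2), (44, 2)]), (3, 0,
  [(46, 2), (32, 2), (11, 2), (25, 2), (27, 2), (25, 2), (11, 2), (25, 2), (27, 2), (39, 2)]), (3, 1, [(39, 2),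
  (46, 2), (32, 2), (25, 2), (42, 1), (29, 1), (42, 1), (11, 2), (39, 2), (46, 2), (60, 2), (46, 2), (39, 2)]),
  (3, 2, [(46, 2), (27, 2), (44, 2), (25, 2), (27, 2), (46, 2), (39, 2), (32, 2), (60, 2), (46, 2), (39, 2)]),
  (3, 3, [(39, 2), (44, 2), (46, 2), (44, 2), (11, 2), (56, 1), (15, 1), (56, 1), (42, 1), (29, 1), (42, 1),
  (25, 2), (11, 2), (27, 2), (25, 2), (39, 2), (46, 2), (44, 2), (39, 2)]), (3, 4, [(46, 2), (39, 2), (11, 2),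
  (25, 2), (32, 2), (56, 1), (15, 1), (56, 1), (42, 1), (29, 1), (42, 1), (25, 2), (32, 2), (25, 2), (11, 2),
  (60, 2), (39, 2), (46, 2), (60, 2), (39, 2)]), (4, 0, [(25, 2), (32, 2), (27, 2), (44, 2), (46, 2), (60, 2),
  (11, 2), (25, 2)]), (4, 1, [(46, 2), (27, 2), (25, 2), (11, 2), (32, 2), (25, 2), (46, 2), (44, 2), (27, 2)]),
  (4, 2, [(46, 2), (44, 2), (25, 2), (32, 2), (27, 2), (56, 1), (15, 1), (56, 1), (42, 1), (29, 1), (42, 1),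
  (32, 2), (39, 2), (46, 2), (25, 2), (11, 2), (32, 2), (44, 2)]), (4, 3, [(32, 2), (25, 2), (27, 2), (25, 2),
  (42, 1), (29, 1), (42, 1), (11, 2), (27, 2), (25, 2), (32, 2), (46, 2), (39, 2)]), (4, 4, [(44, 2), (32, 2),
  (11, 2), (25, 2), (46, 2), (56, 1), (15, 1), (56, 1), (42, 1), (29, 1), (42, 1), (11, 2), (44, 2), (27, 2),
  (32, 2), (25, 2), (39, 2), (46, 2), (60, 2), (39, 2)])]

end H17.TE6Five
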