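import Cfsg.Agent.H60.TE6.Basic
import Cfsg.Agent.H17.HeisDegree.TwWeyl
import Cfsg.Agent.H17.TE6Five.Data

/-!
Evaluation of words in the root elements of `²E₆(2)` on packed matrices over the field with four elements.
-/

set_option autoImplicit false
set_option linter.unusedSectionVars false
set_option maxRecDepth 100000

namespace H17.TE6Five

open Cfsg.Lie H52 H17.HeisDeg.TwAct
open H60.TE6 (step idY toK val rv rent rowOf ent pwc mulc)

attribute [local irreducible] step idY H60.TE6.delta H60.TE6.scale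

/-- The table of a root. -/
def tab (r : ℕ) : List (ℕ × ℕ × ℕ) := tabs.getD r []

/-- The shape of the columns of a root element. -/
def headB (r : ℕ) : Bool :=
  (List.range 78).all fun v =>
    ((colT chevE6 r 1 0 1 v).head? == some (v, 0, 0, 1)) &&
      (colT chevE6 r 1 0 1 v).all fun p => p.2.2.1 == 0

theorem tab_okA : ∀ r < 72, tab r = H60.TE6.entries r := by decide +kernel

theorem head_okA : ((List.range 72).all fun r => headB r) = true := by decide +kernel

theorem heads {r : ℕ} (hr : r < 72) : ∀ v < 78, (colT chevE6 r 1 0 1 v).head? = some (v, 0, 0, 1) ∧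
    ∀ p ∈ colT chevE6 r 1 0 1 v, p.2.2.1 = 0 := by
  intro v hv
  have h := List.all_eq_true.1 (List.all_eq_true.1 head_okA r (List.mem_range.2 hr)) v
    (List.mem_range.2 hv)
  simp only [Bool.and_eq_true, List.all_eq_true, beq_iff_eq] at h
  exact h

/-- A word in root elements applied to a packed matrix. -/
def evR (l : List (ℕ × ℕ)) (Y : ℕ) : ℕ := l.foldr (fun p Z => step (tab p.1) p.2 Z) Y

/-- The letters of a word are roots and codes. -/
def okW (l : List (ℕ × ℕ)) : Bool := l.all fun p => decide (p.1 < 72) && decide (p.2 < 4)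

/-- The square of a code. -/
def sqc (c : ℕ) : ℕ := mulc c c

/-- The root letters of a twisted letter. -/
def tL (p : ℕ × ℕ) : List (ℕ × ℕ) :=
  if tn p.1 == p.1 then [(p.1, p.2 ^^^ sqc p.2)] else [(p.1, p.2), (tn p.1, sqc p.2)]

/-- The root letters of a twisted word. -/
def tW (l : List (ℕ × ℕ)) : List (ℕ × ℕ) := l.flatMap tL

/-- Two twisted words give the same packed matrix. -/
def sameW (a b : List (ℕ × ℕ)) : Bool :=
  okW a && okW b && Nat.beq (evR (tW a) idY) (evR (tW b) idY)

/-- Two twisted words give packed matrices differing at a place. -/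
def diffW (a b : List (ℕ × ℕ)) : Bool :=
  okW a && okW b &&
    let A := evR (tW a) idY
    let B := evR (tW b) idY
    (List.range 78).any fun i => rowOf A i != rowOf B i &&
      (List.range 78).any fun j => ent A i j != ent B i j

section Field

variable {K : Type*} [Field K] [CharP K 2]

/-- The word of root elements. -/
noncomputable def eR (w : K) (l : List (ℕ × ℕ)) : GL chevE6.Idx K :=
  wordRt chevE6 (l.map fun p => (p.1, val w p.2))

omit [CharP K 2] in
theorem eR_append (w : K) (a b : List (ℕ × ℕ)) : eR w (a ++ b) = eR w a * eR w b := by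
  simp [eR, wordRt]

omit [CharP K 2] in
theorem eR_cons (w : K) (p : ℕ × ℕ) (l : List (ℕ × ℕ)) :
    eR w (p :: l) = rt chevE6 p.1 (val w p.2) * eR w l := by
  simp [eR, wordRt]

variable {w : K} (hw : w * w = w + 1)
include hw

theorem evR_toK : ∀ {l : List (ℕ × ℕ)}, okW l = true → ∀ Y : ℕ,
    toK w (evR l Y) = (eR w l : Matrix chevE6.Idx chevE6.Idx K) * toK w Y := by
  intro l
  induction l with
  | nil => intro _ Y; simp [evR, eR, wordRt]
  | cons p l ih =>
    intro h Y
    simp only [okW, List.all_cons, Bool.and_eq_true, decide_eq_true_eq] at h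
    obtain ⟨⟨h1, h2⟩, h3⟩ := h
    show toK w (step (tab p.1) p.2 (evR l Y)) = _
    rw [H60.TE6.step_toK hw h1 _ (tab_okA _ h1) (heads h1) h2, ih (by simp only [okW, h3]), eR_cons,
      Units.val_mul, checkedE6.coe_rt, mul_assoc]

theorem eR_eval {l : List (ℕ × ℕ)} (h : okW l = true) :
    toK w (evR l idY) = (eR w l : Matrix chevE6.Idx chevE6.Idx K) := by
  rw [evR_toK hw h, H60.TE6.toK_idY, mul_one]

theorem val_inj : ∀ a < 4, ∀ b < 4, val w a = val w b → a = b := by
  have h2 : (2 : K) = 0 := CharTwo.two_eq_zero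
  have h10 : (1 : K) ≠ 0 := one_ne_zero
  obtain ⟨v0, v1, v2, v3⟩ := H60.TE6.val_vals w
  intro a ha b hb e
  interval_cases a <;> interval_cases b <;> simp only [v0, v1, v2, v3] at e <;>
    first | rfl | (exfalso; grind)

theorem val_sqc {c : ℕ} (hc : c < 4) : sqc c < 4 ∧ val w (sqc c) = val w c ^ 2 := by
  obtain ⟨h1, h2⟩ := H60.TE6.val_mulc_table hw c hc c hc
  exact ⟨h1, by rw [sq]; exact h2⟩

omit hw in
theorem rent_lt (R k : ℕ) : rent R k < 4 := by
  unfold rent
  cases R.testBit k <;> cases R.testBit (78 + k) <;> simp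

omit hw in
theorem code_surj {i : ℕ} (hi : i < 78) : ∃ x : chevE6.Idx, code chevE6 x = i := by
  by_cases h : i < 72
  · exact ⟨.inr ⟨i, h⟩, rfl⟩
  · exact ⟨.inl ⟨i - 72, show i - 72 < 6 by omega⟩, show 72 + (i - 72) = i by omega⟩

theorem toK_ne {A B i j : ℕ} (hi : i < 78) (hj : j < 78) (h : ent A i j ≠ ent B i j) :
    toK w A ≠ toK w B := by
  intro e
  obtain ⟨x, rfl⟩ := code_surj hi
  obtain ⟨y, rfl⟩ := code_surj hj
  have h1 := congrFun (congrFun e x) y
  have h2 : val w (ent A (code chevE6 x) (code chevE6 y)) =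
      val w (ent B (code chevE6 x) (code chevE6 y)) := by
    rw [ent, ent, H60.TE6.val_rent, H60.TE6.val_rent]
    exact h1
  exact h (val_inj hw _ (rent_lt _ _) _ (rent_lt _ _) h2)

end Field

theorem tn_lt {r : ℕ} (hr : r < 72) : tn r < 72 := (H17.HeisDeg.TwAct.tab hr).1

theorem okW_tW {l : List (ℕ × ℕ)} (h : okW l = true) : okW (tW l) = true := by
  have key : ∀ c < 4, sqc c < 4 ∧ c ^^^ sqc c < 4 := by decide
  simp only [okW, tW, List.all_flatMap, List.all_eq_true, Bool.and_eq_true, decide_eq_true_eq] at h ⊢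
  intro p hp q hq
  obtain ⟨h1, h2⟩ := h p hp
  unfold tL at hq
  split at hq
  · simp only [List.mem_singleton] at hq
    subst hq
    exact ⟨h1, (key _ h2).2⟩
  · simp only [List.mem_cons, List.not_mem_nil, or_false] at hq
    rcases hq with rfl | rfl
    · exact ⟨h1, h2⟩
    · exact ⟨tn_lt h1, (key _ h2).1⟩

section Twisted

variable {T : Tables} {K : Type*} [Field K] [CharP K 2] (X : Twist e6Fold T K)

/-- The standing facts on the field and the twisting automorphism. -/
class Setup (X : Twist e6Fold T K) where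
  /-- A primitive element. -/
  w : K
  hw : w * w = w + 1
  hf : ∀ a, X.f a = a ^ 2
  all : ∀ a : K, ∃ c < 4, val w c = a

variable [hS : Setup X]

local notation "w" => Setup.w X

include hS in
theorem invol : Invol X where
  ff t := by
    rw [hS.hf, hS.hf]
    obtain ⟨c, hc, rfl⟩ := hS.all t
    obtain ⟨v0, v1, v2, v3⟩ := H60.TE6.val_vals w
    have h2 : (2 : K) = 0 := CharTwo.two_eq_zero
    have hw := hS.hw
    interval_cases c <;> simp only [v0, v1, v2, v3] <;> grind
  ne := ⟨w, fun h => by
    have h2 : (2 : K) = 0 := CharTwo.two_eq_zero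
    have h10 : (1 : K) ≠ 0 := one_ne_zero
    have hw := hS.hw
    rw [hS.hf] at h
    grind⟩

variable [Invol X]

/-- The element of a twisted word. -/
noncomputable def yW (l : List (ℕ × ℕ)) : ↥X.grp := (l.map fun p => ye X p.1 (val w p.2)).prod

omit [CharP K 2] in
theorem yW_nil : yW X ([] : List (ℕ × ℕ)) = 1 := rfl

theorem yW_append (a b : List (ℕ × ℕ)) : yW X (a ++ b) = yW X a * yW X b := by
  simp [yW]

theorem yW_single (r c : ℕ) : yW X [(r, c)] = ye X r (val w c) := by
  simp [yW]

omit hS in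
theorem val_xor (u : K) (a b : ℕ) : val u (a ^^^ b) = val u a + val u b := by
  simp only [val, Nat.testBit_xor, H60.TE6.b2k_xor]
  ring

theorem coe_ye_val {r c : ℕ} (hr : r < 72) (hc : c < 4) :
    ((ye X r (val w c) : ↥X.grp) : GL chevE6.Idx K) = eR w (tL (r, c)) := by
  rw [coe_ye X hr, tL]
  split_ifs with h
  · rw [beq_iff_eq] at h
    rw [yv_fix X hr h, eR_cons, val_xor w, (val_sqc hS.hw hc).2, tr, hS.hf]
    simp [eR, wordRt]
  · have hen : (en r : K) = 1 := by
      have h1 := en_cast (K := K) hr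
      rcases mul_self_eq_one_iff.1 h1 with h2 | h2
      · exact h2
      · rw [h2, CharTwo.neg_eq]
    rw [yv, hen, one_mul, hS.hf, eR_cons, eR_cons, (val_sqc hS.hw hc).2]
    simp [eR, wordRt]

theorem coe_yW : ∀ {l : List (ℕ × ℕ)}, okW l = true →
    ((yW X l : ↥X.grp) : GL chevE6.Idx K) = eR w (tW l) := by
  intro l
  induction l with
  | nil => intro _; simp [yW, tW, eR, wordRt]
  | cons p l ih =>
    intro h
    simp only [okW, List.all_cons, Bool.and_eq_true, decide_eq_true_eq] at h
    rw [show p :: l = [p] ++ l from rfl, yW_append, Subgroup.coe_mul, ih (by simp only [okW, h.2]),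
      show yW X [p] = ye X p.1 (val w p.2) from yW_single X p.1 p.2, coe_ye_val X h.1.1 h.1.2]
    show _ = eR w (([p] ++ l).flatMap tL)
    rw [List.flatMap_append, eR_append]
    simp [tW]

theorem yW_eq {a b : List (ℕ × ℕ)} (h : sameW a b = true) : yW X a = yW X b := by
  simp only [sameW, Bool.and_eq_true] at h
  obtain ⟨⟨ha, hb⟩, he⟩ := h
  apply Subtype.ext
  rw [coe_yW X ha, coe_yW X hb]
  apply Units.ext
  rw [← eR_eval hS.hw (okW_tW ha), ← eR_eval hS.hw (okW_tW hb), Nat.eq_of_beq_eq_true he]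

theorem yW_ne {a b : List (ℕ × ℕ)} (h : diffW a b = true) : yW X a ≠ yW X b := by
  simp only [diffW, Bool.and_eq_true, List.any_eq_true, List.mem_range, bne_iff_ne] at h
  obtain ⟨⟨ha, hb⟩, i, hi, -, j, hj, hne⟩ := h
  intro e
  have e' := congrArg (fun g : ↥X.grp => ((g : GL chevE6.Idx K) : Matrix chevE6.Idx chevE6.Idx K)) e
  simp only [coe_yW X ha, coe_yW X hb] at e'
  rw [← eR_eval hS.hw (okW_tW ha), ← eR_eval hS.hw (okW_tW hb)] at e'
  exact toK_ne hS.hw hi hj hne e'

end Twisted

end H17.TE6Five
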